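import Mathlib
import Cfsg.Agent.H915.GNDefs

/-!
# Arithmetic of the orders inside `GL_n(p^E)`: general lemmas (helper264)
-/

set_option autoImplicit false

namespace Cfsg.Agent.H264.GN

open Cfsg.Agent.OrdDiv Cfsg.Agent.H436

variable {p n E c f M d t : ℕ}

/-- `|GL_n(Q)|` with the powers of `Q` extracted. -/
theorem glN_eq (n Q : ℕ) : glN n Q = Q ^ (n * (n - 1) / 2) * ∏ j ∈ Finset.range n, (Q ^ (j + 1) - 1) := by
  unfold glN
  rw [prod_list]
  have h1 : ∀ i ∈ Finset.range n, Q ^ n - Q ^ i = Q ^ i * (Q ^ (n - i) - 1) := by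
    intro i hi
    rw [Finset.mem_range] at hi
    exact pow_sub_pow Q (by omega)
  rw [Finset.prod_congr rfl h1, Finset.prod_mul_distrib, Finset.prod_pow_eq_pow_sum, Finset.sum_range_id]
  congr 1
  rw [← Finset.prod_range_reflect]
  refine Finset.prod_congr rfl fun i hi => ?_
  rw [Finset.mem_range] at hi
  congr 2
  omega

/-- A primitive prime for the exponent `d` dividing `|GL_n(p^E)|`. -/
theorem exists_exp (ht : Prim p d t) (h : t ∣ glN n (p ^ E)) : ∃ i, 1 ≤ i ∧ i ≤ n ∧ d ∣ E * i := by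
  rw [glN_eq] at h
  rcases ht.prime.dvd_mul.1 h with h1 | h1
  · rw [← pow_mul] at h1
    exact absurd h1 (ht.not_dvd_pow _)
  · rw [Prime.dvd_finsetProd_iff ht.prime.prime] at h1
    obtain ⟨j, hj, hd⟩ := h1
    rw [Finset.mem_range] at hj
    refine ⟨j + 1, by omega, by omega, ?_⟩
    rw [← pow_mul] at hd
    exact (ht.dvd_iff _).1 hd

/-- The `p`-part of `|GL_n(p^E)|`. -/
theorem pow_le (hp : p.Prime) (hE : 1 ≤ E) {k : ℕ} (h : p ^ k ∣ glN n (p ^ E)) : k ≤ E * (n * (n - 1) / 2) := by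
  rw [glN_eq, ← pow_mul] at h
  have hco : Nat.Coprime (p ^ k) (∏ j ∈ Finset.range n, ((p ^ E) ^ (j + 1) - 1)) := by
    refine Nat.Coprime.pow_left k ?_
    refine (Nat.Prime.coprime_iff_not_dvd hp).2 fun h1 => ?_
    rw [Prime.dvd_finsetProd_iff hp.prime] at h1
    obtain ⟨j, hj, hd⟩ := h1
    have h2 : p ∣ (p ^ E) ^ (j + 1) := by
      rw [← pow_mul]
      exact dvd_pow_self p (Nat.mul_ne_zero (by omega) (by omega))
    have h3 : 1 ≤ (p ^ E) ^ (j + 1) := Nat.one_le_pow _ _ (pow_pos hp.pos _)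
    have h4 : p ∣ 1 := by
      have := (Nat.dvd_sub h2 hd)
      rwa [Nat.sub_sub_self h3] at this
    exact hp.one_lt.ne' (Nat.dvd_one.1 h4)
  exact (Nat.pow_dvd_pow_iff_le_right hp.one_lt).1 (hco.dvd_of_dvd_mul_right h)

/-- There is a primitive prime for `n E`, `n ≥ 5` prime. -/
theorem exists_prim_nE (hp : p.Prime) (hn : n.Prime) (hn5 : 5 ≤ n) (hE : 1 ≤ E) : ∃ s, Prim p (n * E) s := by
  refine exists_prim hp.two_le (by nlinarith) ?_
  rintro ⟨-, h⟩
  have h1 : n ∣ 2 * 3 := ⟨E, by omega⟩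
  rcases hn.dvd_mul.1 h1 with h2 | h2
  · have := Nat.le_of_dvd (by norm_num) h2; omega
  · have := Nat.le_of_dvd (by norm_num) h2; omega

/-- the order of `p` modulo `t` is at most `t - 1` -/
theorem lt_of_prim (ht : Prim p d t) : d < t := by
  have h1 : t ∣ p ^ (t - 1) - 1 := by
    have hco : Nat.Coprime p t := ((Nat.Prime.coprime_iff_not_dvd ht.prime).2 ht.not_dvd).symm
    have := Nat.ModEq.pow_totient hco
    rw [Nat.totient_prime ht.prime] at this
    exact (Nat.modEq_iff_dvd' (Nat.one_le_pow _ _ (Nat.pos_of_ne_zero (by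
      rintro rfl
      exact ht.not_dvd (dvd_zero _))))).1 this.symm
  have h2 := Nat.le_of_dvd (by have := ht.prime.two_le; omega) ((ht.dvd_iff _).1 h1)
  have := ht.prime.two_le
  omega

/-- **The top exponent.** -/
theorem top (hp : p.Prime) (hn : n.Prime) (hn5 : 5 ≤ n) (hE : 1 ≤ E) (hdvd : c ∣ glN n (p ^ E))
    (hM : 3 ≤ f * M) (h6 : ¬ (p = 2 ∧ f * M = 6)) (h1 : ∀ s, Prim p (n * E) s → n * E ≤ f * M)
    (h2 : ∀ t, Prim p (f * M) t → t ∣ c) : f * M = n * E := by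
  obtain ⟨s, hs⟩ := exists_prim_nE hp hn hn5 hE
  obtain ⟨t, ht⟩ := exists_prim hp.two_le hM h6
  obtain ⟨i, hi1, hi2, hd⟩ := exists_exp ht ((h2 t ht).trans hdvd)
  have h3 : f * M ≤ E * i := Nat.le_of_dvd (by positivity) hd
  have h4 : E * i ≤ E * n := Nat.mul_le_mul_left _ hi2
  have h5 := h1 s hs
  rw [mul_comm E n] at h4
  omega

/-- **A second exponent.** -/
theorem second (hp : p.Prime) (hf : 1 ≤ f) (hdvd : c ∣ glN n (p ^ E)) (hfM : f * M = n * E) (hd : 3 ≤ f * d)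
    (h6 : ¬ (p = 2 ∧ f * d = 6)) (h2 : ∀ t, Prim p (f * d) t → t ∣ c) : ∃ i, 1 ≤ i ∧ i ≤ n ∧ n * d ∣ M * i := by
  obtain ⟨t, ht⟩ := exists_prim hp.two_le hd h6
  obtain ⟨i, hi1, hi2, hdd⟩ := exists_exp ht ((h2 t ht).trans hdvd)
  refine ⟨i, hi1, hi2, ?_⟩
  have h3 : f * (n * d) ∣ f * (M * i) := by
    obtain ⟨k, hk⟩ := hdd
    refine ⟨k, ?_⟩
    calc f * (M * i) = (f * M) * i := by ring
      _ = n * (E * i) := by rw [hfM]; ring
      _ = n * (f * d * k) := by rw [hk]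
      _ = f * (n * d) * k := by ring
  exact Nat.dvd_of_mul_dvd_mul_left (by omega) h3

/-- A second exponent divides the top exponent, if `n` does not. -/
theorem second' (hp : p.Prime) (hn : n.Prime) (hf : 1 ≤ f) (hdvd : c ∣ glN n (p ^ E)) (hfM : f * M = n * E)
    (hnM : ¬ n ∣ M) (hd : 3 ≤ f * d) (h6 : ¬ (p = 2 ∧ f * d = 6)) (h2 : ∀ t, Prim p (f * d) t → t ∣ c) : d ∣ M := by
  obtain ⟨i, hi1, hi2, h3⟩ := second hp hf hdvd hfM hd h6 h2
  have h4 : n ∣ i := (hn.dvd_mul.1 ((Dvd.intro _ rfl).trans h3)).resolve_left hnM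
  have h5 : i = n := le_antisymm hi2 (Nat.le_of_dvd (by omega) h4)
  rw [h5, mul_comm M n] at h3
  exact Nat.dvd_of_mul_dvd_mul_left hn.pos h3

/-- **The part for the primitive primes of `f`.** -/
theorem tpart (hp : p.Prime) (hn : n.Prime) (hn5 : 5 ≤ n) (hf : 1 ≤ f) (hdvd : c ∣ glN n (p ^ E))
    (hfM : f * M = n * E) (hM : M ∣ 12) {D : ℕ} (hD : ∀ t, Prim p f t → ¬ t ∣ D)
    (h2 : (p ^ f - 1) ^ 2 ∣ D * c) : False := by
  have hM0 : M ≠ 0 := by rintro rfl; norm_num at hM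
  have hnM : ¬ n ∣ M := by
    intro h
    have h1 : n ∣ 2 * (2 * 3) := h.trans hM
    rcases hn.dvd_mul.1 h1 with h3 | h3
    · have := Nat.le_of_dvd (by norm_num) h3; omega
    rcases hn.dvd_mul.1 h3 with h4 | h4
    · have := Nat.le_of_dvd (by norm_num) h4; omega
    · have := Nat.le_of_dvd (by norm_num) h4; omega
  have hnf : n ∣ f := (hn.dvd_mul.1 (show n ∣ f * M from ⟨E, hfM⟩)).resolve_right hnM
  obtain ⟨e, rfl⟩ := hnf
  have he : 1 ≤ e := by
    rcases Nat.eq_zero_or_pos e with rfl | h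
    · omega
    · exact h
  have hE : E = M * e := by
    apply Nat.eq_of_mul_eq_mul_left hn.pos
    rw [← hfM]; ring
  obtain ⟨t, ht⟩ := exists_prim_nE hp hn hn5 he
  have htp : t.Prime := ht.prime
  have ht5 : 5 < t := by
    have := lt_of_prim ht
    have : n * 1 ≤ n * e := Nat.mul_le_mul_left _ he
    omega
  have htM : ¬ t ∣ M := by
    intro h
    have h1 : t ∣ 2 * (2 * 3) := h.trans hM
    rcases htp.dvd_mul.1 h1 with h3 | h3
    · have := Nat.le_of_dvd (by norm_num) h3; omega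
    rcases htp.dvd_mul.1 h3 with h4 | h4
    · have := Nat.le_of_dvd (by norm_num) h4; omega
    · have := Nat.le_of_dvd (by norm_num) h4; omega
  -- the multiplicity
  have hq1 : 1 < p ^ (n * e) := Nat.one_lt_pow (Nat.mul_ne_zero (by omega) (by omega)) hp.one_lt
  have hne : p ^ (n * e) - 1 ≠ 0 := by omega
  obtain ⟨k, hk1, hk2⟩ : ∃ k, t ^ k ∣ p ^ (n * e) - 1 ∧ ¬ t ^ (k + 1) ∣ p ^ (n * e) - 1 :=
    ⟨_, Nat.ordProj_dvd _ t, Nat.pow_succ_factorization_not_dvd hne htp⟩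
  have hk : 1 ≤ k := by
    rcases Nat.eq_zero_or_pos k with rfl | h
    · exact absurd (by rw [zero_add, pow_one]; exact ht.dvd dvd_rfl) hk2
    · exact h
  have h3 : t ^ (k + k) ∣ c := by
    have h4 : t ^ (k + k) ∣ D * c := by
      refine Dvd.dvd.trans ?_ h2
      rw [pow_two, pow_add]
      exact Nat.mul_dvd_mul hk1 hk1
    exact (Nat.Coprime.pow_left _ ((Nat.Prime.coprime_iff_not_dvd htp).2 (hD t ht))).dvd_of_dvd_mul_left h4
  have h4 : t ^ (k + 1) ∣ glN n (p ^ E) := (pow_dvd_pow t (by omega)).trans (h3.trans hdvd)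
  rw [glN_eq] at h4
  have h5 : t ^ (k + 1) ∣ ∏ j ∈ Finset.range n, ((p ^ E) ^ (j + 1) - 1) := by
    refine Nat.Coprime.dvd_of_dvd_mul_left (Nat.Coprime.pow_left _ ?_) h4
    rw [← pow_mul]
    exact (Nat.Prime.coprime_iff_not_dvd htp).2 (ht.not_dvd_pow _)
  obtain ⟨m, rfl⟩ : ∃ m, n = m + 1 := ⟨n - 1, by omega⟩
  rw [Finset.prod_range_succ] at h5
  have h6 : t ^ (k + 1) ∣ (p ^ E) ^ (m + 1) - 1 := by
    refine Nat.Coprime.dvd_of_dvd_mul_left (Nat.Coprime.pow_left _ ?_) h5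
    refine (Nat.Prime.coprime_iff_not_dvd htp).2 fun h7 => ?_
    rw [Prime.dvd_finsetProd_iff htp.prime] at h7
    obtain ⟨j, hj, hd⟩ := h7
    rw [Finset.mem_range] at hj
    rw [← pow_mul, ht.dvd_iff, hE] at hd
    have h8 : e * (m + 1) ∣ e * (M * (j + 1)) := by
      obtain ⟨a, ha⟩ := hd
      exact ⟨a, by linarith [ha]⟩
    have h9 := Nat.dvd_of_mul_dvd_mul_left (by omega) h8
    have h10 := Nat.le_of_dvd (by omega) ((hn.dvd_mul.1 h9).resolve_left hnM)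
    omega
  have h7 : (p ^ E) ^ (m + 1) - 1 = (p ^ ((m + 1) * e) - 1) * ∑ i ∈ Finset.range M, (p ^ ((m + 1) * e)) ^ i := by
    rw [← pow_mul, show E * (m + 1) = ((m + 1) * e) * M by rw [hE]; ring, pow_mul]
    have := Nat.geomSum_eq (m := p ^ ((m + 1) * e)) (by omega) M
    rw [this]
    exact (Nat.mul_div_cancel' (sub_dvd_pow_sub _ _)).symm
  rw [h7] at h6
  apply hk2
  refine Nat.Coprime.dvd_of_dvd_mul_right (Nat.Coprime.pow_left _ ?_) h6
  refine (Nat.Prime.coprime_iff_not_dvd htp).2 fun h8 => htM ?_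
  have h9 : (∑ i ∈ Finset.range M, (p ^ ((m + 1) * e)) ^ i) ≡ M [MOD t] := by
    have h10 : p ^ ((m + 1) * e) ≡ 1 [MOD t] :=
      ((Nat.modEq_iff_dvd' (by omega)).2 (ht.dvd dvd_rfl)).symm
    calc (∑ i ∈ Finset.range M, (p ^ ((m + 1) * e)) ^ i) ≡ ∑ i ∈ Finset.range M, 1 [MOD t] := by
          refine Nat.ModEq.sum ?_
          intro i _
          have := h10.pow i
          rwa [one_pow] at this
      _ = M := by simp
  exact (Nat.modEq_zero_iff_dvd.1 (h9.symm.trans (Nat.modEq_zero_iff_dvd.2 h8)))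

end Cfsg.Agent.H264.GN
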