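import Mathlib
import Cfsg.Agent.H264.GN.Basic

/-!
# Arithmetic of the orders inside `GL_n(p^E)`: the exceptional families (helper264)
-/

set_option autoImplicit false

namespace Cfsg.Agent.H264.GN

open Cfsg.Agent.OrdDiv Cfsg.Agent.H436 Cfsg.Agent.H915.GN

variable {p n E c f M d t : ℕ}

theorem ofD (ht : Prim p d t) (hd : 3 ≤ d) {D : ℕ} (hD0 : 0 < D) (hD : D ≤ 3) (h : t ∣ D * c) : t ∣ c := by
  refine (ht.prime.dvd_mul.1 h).resolve_left fun h1 => ?_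
  have := Nat.le_of_dvd hD0 h1
  have := lt_of_prim ht
  omega

/-- the top exponent of a family given by a list of exponents -/
theorem exc_top {a D : ℕ} (L : List ℕ) (hp : p.Prime) (hn : n.Prime) (hn5 : 5 ≤ n) (hE : 1 ≤ E) (hf : 1 ≤ f)
    (hM : 4 ≤ M) (h6 : ¬ (p = 2 ∧ f * M = 6)) (hD0 : 0 < D) (hD : D ≤ 3)
    (hup : D * c ∣ (p ^ f) ^ a * (L.map fun d => (p ^ f) ^ d - 1).prod) (hL : ∀ d ∈ L, 1 ≤ d ∧ d ≤ M)
    (hlow : ∀ t, Prim p (f * M) t → t ∣ D * c) (hdvd : c ∣ glN n (p ^ E)) (hs : ∀ s, Prim p (n * E) s → s ∣ c) :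
    f * M = n * E := by
  have hfM : 3 ≤ f * M := by nlinarith
  refine top hp hn hn5 hE hdvd hfM h6 (fun s hs' => ?_) (fun t ht => ofD ht hfM hD0 hD (hlow t ht))
  have h1 : s ∣ (p ^ f) ^ a * (L.map fun d => (p ^ f) ^ d - 1).prod := ((hs s hs').mul_left D).trans hup
  rcases hs'.prime.dvd_mul.1 h1 with h2 | h2
  · rw [← pow_mul] at h2
    exact absurd h2 (hs'.not_dvd_pow _)
  · rw [Prime.dvd_prod_iff hs'.prime.prime] at h2
    obtain ⟨x, hx, hd⟩ := h2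
    rw [List.mem_map] at hx
    obtain ⟨d, hd', rfl⟩ := hx
    obtain ⟨h3, h4⟩ := hL d hd'
    rw [← pow_mul, hs'.dvd_iff] at hd
    exact (Nat.le_of_dvd (by nlinarith) hd).trans (Nat.mul_le_mul_left _ h4)

theorem dvd_of_prim (ht : Prim p (f * d) t) {N : ℕ} (h : (p ^ f) ^ d - 1 ∣ N) : t ∣ N := by
  refine Dvd.dvd.trans ?_ h
  rw [← pow_mul]
  exact ht.dvd dvd_rfl

theorem dvd_of_prim' (ht : Prim p (f * (2 * d)) t) (hf : 1 ≤ f) (hd : 1 ≤ d) {N : ℕ} (h : (p ^ f) ^ d + 1 ∣ N) :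
    t ∣ N := by
  refine Dvd.dvd.trans ?_ h
  rw [← pow_mul]
  refine ht.dvd_add (by rw [mul_left_comm]) fun h1 => ?_
  have := Nat.le_of_dvd (by nlinarith) h1
  nlinarith

theorem add_dvd (q d : ℕ) : q ^ d + 1 ∣ q ^ (2 * d) - 1 := by
  rw [mul_comm 2 d, pow_mul]
  have := Nat.sq_sub_sq (q ^ d) 1
  rw [one_pow] at this
  rw [this]
  exact Dvd.intro _ rfl

theorem f_pos {q : ℕ} (h1 : IsPrimePow q) (h : q = p ^ f) : 1 ≤ f := by
  rcases Nat.eq_zero_or_pos f with rfl | h2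
  · rw [pow_zero] at h
    exact absurd (h ▸ h1) not_isPrimePow_one
  · exact h2

theorem not_dvd12 (hn5 : 5 ≤ n) (hn : n.Prime) : ¬ n ∣ 12 := by
  intro h
  have h1 : n ∣ 2 * (2 * 3) := h
  rcases hn.dvd_mul.1 h1 with h3 | h3
  · have := Nat.le_of_dvd (by norm_num) h3; omega
  rcases hn.dvd_mul.1 h3 with h4 | h4
  · have := Nat.le_of_dvd (by norm_num) h4; omega
  · have := Nat.le_of_dvd (by norm_num) h4; omega

theorem not_dvd18 (hn5 : 5 ≤ n) (hn : n.Prime) : ¬ n ∣ 18 := by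
  intro h
  have h1 : n ∣ 2 * (3 * 3) := h
  rcases hn.dvd_mul.1 h1 with h3 | h3
  · have := Nat.le_of_dvd (by norm_num) h3; omega
  rcases hn.dvd_mul.1 h3 with h4 | h4
  · have := Nat.le_of_dvd (by norm_num) h4; omega
  · have := Nat.le_of_dvd (by norm_num) h4; omega

/-- the factors of the order -/
theorem mem_dvd {X a q : ℕ} {L : List ℕ} (h : X ∈ L) : X ∣ q ^ a * L.prod :=
  (List.dvd_prod h).mul_left _

theorem gn_f4 (hp : p.Prime) (hn : n.Prime) (hn5 : 5 ≤ n) (hE : 1 ≤ E) {q : ℕ} (hg : Cond (.f4 q))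
    (hch : HasChar p (.f4 q)) (hc : den (.f4 q) * c = num (.f4 q)) (hdvd : c ∣ glN n (p ^ E))
    (hs : ∀ s, Prim p (n * E) s → s ∣ c) : False := by
  obtain ⟨f, rfl⟩ := hch
  have hf : 1 ≤ f := f_pos hg rfl
  have hc' : 1 * c = (p ^ f) ^ 24 * [(p ^ f) ^ 2 - 1, (p ^ f) ^ 6 - 1, (p ^ f) ^ 8 - 1, (p ^ f) ^ 12 - 1].prod := by
    have h : 1 * c = (p ^ f) ^ 24 * (((p ^ f) ^ 2 - 1) * ((p ^ f) ^ 6 - 1) * ((p ^ f) ^ 8 - 1) *
      ((p ^ f) ^ 12 - 1)) := hc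
    rw [h]
    simp only [List.prod_cons, List.prod_nil, mul_one, mul_assoc]
  have hlow : ∀ d ∈ [2, 6, 8, 12], ∀ t, Prim p (f * d) t → t ∣ 1 * c := fun d hd t ht => by
    rw [hc']
    exact dvd_of_prim ht (mem_dvd (List.mem_map_of_mem (f := fun d => (p ^ f) ^ d - 1) hd))
  have hfM : f * 12 = n * E :=
    exc_top (a := 24) (D := 1) [2, 6, 8, 12] hp hn hn5 hE hf (by norm_num) (by omega) one_pos (by norm_num)
      (by rw [hc']; exact dvd_rfl) (by decide) (hlow 12 (by decide)) hdvd hs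
  have h8 := second' hp hn hf hdvd hfM (not_dvd12 hn5 hn) (d := 8) (by omega) (by omega)
    (fun t ht => ofD ht (by omega) one_pos (by norm_num) (hlow 8 (by decide) t ht))
  omega

theorem gn_e6 (hp : p.Prime) (hn : n.Prime) (hn5 : 5 ≤ n) (hE : 1 ≤ E) {q : ℕ} (hg : Cond (.e6 q))
    (hch : HasChar p (.e6 q)) (hc : den (.e6 q) * c = num (.e6 q)) (hdvd : c ∣ glN n (p ^ E))
    (hs : ∀ s, Prim p (n * E) s → s ∣ c) : False := by
  obtain ⟨f, rfl⟩ := hch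
  have hf : 1 ≤ f := f_pos hg rfl
  obtain ⟨D, hD, hD0, hD3⟩ : ∃ D, D = Nat.gcd 3 (p ^ f - 1) ∧ 0 < D ∧ D ≤ 3 :=
    ⟨_, rfl, Nat.gcd_pos_of_pos_left _ (by norm_num), Nat.gcd_le_left _ (by norm_num)⟩
  have hc' : D * c = (p ^ f) ^ 36 * [(p ^ f) ^ 2 - 1, (p ^ f) ^ 5 - 1, (p ^ f) ^ 6 - 1, (p ^ f) ^ 8 - 1,
      (p ^ f) ^ 9 - 1, (p ^ f) ^ 12 - 1].prod := by
    have h : Nat.gcd 3 (p ^ f - 1) * c = (p ^ f) ^ 36 * (((p ^ f) ^ 2 - 1) * ((p ^ f) ^ 5 - 1) * ((p ^ f) ^ 6 - 1) *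
      ((p ^ f) ^ 8 - 1) * ((p ^ f) ^ 9 - 1) * ((p ^ f) ^ 12 - 1)) := hc
    rw [hD, h]
    simp only [List.prod_cons, List.prod_nil, mul_one, mul_assoc]
  have hlow : ∀ d ∈ [2, 5, 6, 8, 9, 12], ∀ t, Prim p (f * d) t → t ∣ D * c := fun d hd t ht => by
    rw [hc']
    exact dvd_of_prim ht (mem_dvd (List.mem_map_of_mem (f := fun d => (p ^ f) ^ d - 1) hd))
  have hfM : f * 12 = n * E :=
    exc_top (a := 36) (D := D) [2, 5, 6, 8, 9, 12] hp hn hn5 hE hf (by norm_num) (by omega) hD0 hD3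
      (by rw [hc']; exact dvd_rfl) (by decide) (hlow 12 (by decide)) hdvd hs
  have h8 := second' hp hn hf hdvd hfM (not_dvd12 hn5 hn) (d := 8) (by omega) (by omega)
    (fun t ht => ofD ht (by omega) hD0 hD3 (hlow 8 (by decide) t ht))
  omega

theorem gn_e7 (hp : p.Prime) (hn : n.Prime) (hn5 : 5 ≤ n) (hE : 1 ≤ E) {q : ℕ} (hg : Cond (.e7 q))
    (hch : HasChar p (.e7 q)) (hc : den (.e7 q) * c = num (.e7 q)) (hdvd : c ∣ glN n (p ^ E))
    (hs : ∀ s, Prim p (n * E) s → s ∣ c) : False := by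
  obtain ⟨f, rfl⟩ := hch
  have hf : 1 ≤ f := f_pos hg rfl
  obtain ⟨D, hD, hD0, hD3⟩ : ∃ D, D = Nat.gcd 2 (p ^ f - 1) ∧ 0 < D ∧ D ≤ 3 :=
    ⟨_, rfl, Nat.gcd_pos_of_pos_left _ (by norm_num), (Nat.gcd_le_left _ (by norm_num)).trans (by norm_num)⟩
  have hc' : D * c = (p ^ f) ^ 63 * [(p ^ f) ^ 2 - 1, (p ^ f) ^ 6 - 1, (p ^ f) ^ 8 - 1, (p ^ f) ^ 10 - 1,
      (p ^ f) ^ 12 - 1, (p ^ f) ^ 14 - 1, (p ^ f) ^ 18 - 1].prod := by
    have h : Nat.gcd 2 (p ^ f - 1) * c = (p ^ f) ^ 63 * (((p ^ f) ^ 2 - 1) * ((p ^ f) ^ 6 - 1) *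
      ((p ^ f) ^ 8 - 1) * ((p ^ f) ^ 10 - 1) * ((p ^ f) ^ 12 - 1) * ((p ^ f) ^ 14 - 1) *
      ((p ^ f) ^ 18 - 1)) := hc
    rw [hD, h]
    simp only [List.prod_cons, List.prod_nil, mul_one, mul_assoc]
  have hlow : ∀ d ∈ [2, 6, 8, 10, 12, 14, 18], ∀ t, Prim p (f * d) t → t ∣ D * c := fun d hd t ht => by
    rw [hc']
    exact dvd_of_prim ht (mem_dvd (List.mem_map_of_mem (f := fun d => (p ^ f) ^ d - 1) hd))
  have hfM : f * 18 = n * E :=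
    exc_top (a := 63) (D := D) [2, 6, 8, 10, 12, 14, 18] hp hn hn5 hE hf (by norm_num) (by omega) hD0 hD3
      (by rw [hc']; exact dvd_rfl) (by decide) (hlow 18 (by decide)) hdvd hs
  have h8 := second' hp hn hf hdvd hfM (not_dvd18 hn5 hn) (d := 8) (by omega) (by omega)
    (fun t ht => ofD ht (by omega) hD0 hD3 (hlow 8 (by decide) t ht))
  omega

theorem gn_e8 (hp : p.Prime) (hn : n.Prime) (hn5 : 5 ≤ n) (hE : 1 ≤ E) {q : ℕ} (hg : Cond (.e8 q))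
    (hch : HasChar p (.e8 q)) (hc : den (.e8 q) * c = num (.e8 q)) (hdvd : c ∣ glN n (p ^ E))
    (hs : ∀ s, Prim p (n * E) s → s ∣ c) : False := by
  obtain ⟨f, rfl⟩ := hch
  have hf : 1 ≤ f := f_pos hg rfl
  have hc' : 1 * c = (p ^ f) ^ 120 * [(p ^ f) ^ 2 - 1, (p ^ f) ^ 8 - 1, (p ^ f) ^ 12 - 1, (p ^ f) ^ 14 - 1,
      (p ^ f) ^ 18 - 1, (p ^ f) ^ 20 - 1, (p ^ f) ^ 24 - 1, (p ^ f) ^ 30 - 1].prod := by
    have h : 1 * c = (p ^ f) ^ 120 * (((p ^ f) ^ 2 - 1) * ((p ^ f) ^ 8 - 1) * ((p ^ f) ^ 12 - 1) *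
      ((p ^ f) ^ 14 - 1) * ((p ^ f) ^ 18 - 1) * ((p ^ f) ^ 20 - 1) * ((p ^ f) ^ 24 - 1) *
      ((p ^ f) ^ 30 - 1)) := hc
    rw [h]
    simp only [List.prod_cons, List.prod_nil, mul_one, mul_assoc]
  have hlow : ∀ d ∈ [2, 8, 12, 14, 18, 20, 24, 30], ∀ t, Prim p (f * d) t → t ∣ 1 * c := fun d hd t ht => by
    rw [hc']
    exact dvd_of_prim ht (mem_dvd (List.mem_map_of_mem (f := fun d => (p ^ f) ^ d - 1) hd))
  have hfM : f * 30 = n * E :=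
    exc_top (a := 120) (D := 1) [2, 8, 12, 14, 18, 20, 24, 30] hp hn hn5 hE hf (by norm_num) (by omega) one_pos
      (by norm_num) (by rw [hc']; exact dvd_rfl) (by decide) (hlow 30 (by decide)) hdvd hs
  obtain ⟨i, hi1, hi2, hi⟩ := second hp hf hdvd hfM (d := 14) (by omega) (by omega)
    (fun t ht => ofD ht (by omega) one_pos (by norm_num) (hlow 14 (by decide) t ht))
  -- `n * 14 ∣ 30 * i`
  rcases Nat.lt_or_ge n 7 with h7 | h7
  · obtain rfl : n = 5 := by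
      interval_cases n
      · rfl
      · exact absurd hn (by norm_num)
    interval_cases i <;> omega
  · have hn30 : ¬ n ∣ 30 := by
      intro h
      have h1 : n ∣ 2 * (3 * 5) := h
      rcases hn.dvd_mul.1 h1 with h3 | h3
      · have := Nat.le_of_dvd (by norm_num) h3; omega
      rcases hn.dvd_mul.1 h3 with h4 | h4
      · have := Nat.le_of_dvd (by norm_num) h4; omega
      · have := Nat.le_of_dvd (by norm_num) h4; omega
    have h14 := second' hp hn hf hdvd hfM hn30 (d := 14) (by omega) (by omega)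
      (fun t ht => ofD ht (by omega) one_pos (by norm_num) (hlow 14 (by decide) t ht))
    omega

end Cfsg.Agent.H264.GN
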