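import Mathlib
import Cfsg.Agent.H264.GN.Exc

/-!
# Arithmetic of the orders inside `GL_n(p^E)`: the small and the twisted exceptional families (helper264)
-/

set_option autoImplicit false

namespace Cfsg.Agent.H264.GN

open Cfsg.Agent.OrdDiv Cfsg.Agent.H436 Cfsg.Agent.H915.GN

variable {p n E c f M d t : ℕ}

theorem f_pos' {q : ℕ} (h1 : 1 < q) (h : q = p ^ f) : 1 ≤ f := by
  rcases Nat.eq_zero_or_pos f with rfl | h2
  · rw [pow_zero] at h
    omega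
  · exact h2

theorem gn_te6 (hp : p.Prime) (hn : n.Prime) (hn5 : 5 ≤ n) (hE : 1 ≤ E) {q : ℕ} (hg : Cond (.te6 q))
    (hch : HasChar p (.te6 q)) (hc : den (.te6 q) * c = num (.te6 q)) (hdvd : c ∣ glN n (p ^ E))
    (hs : ∀ s, Prim p (n * E) s → s ∣ c) : False := by
  obtain ⟨f, rfl⟩ := hch
  have hf : 1 ≤ f := f_pos hg rfl
  obtain ⟨D, hD, hD0, hD3⟩ : ∃ D, D = Nat.gcd 3 (p ^ f + 1) ∧ 0 < D ∧ D ≤ 3 :=
    ⟨_, rfl, Nat.gcd_pos_of_pos_left _ (by norm_num), Nat.gcd_le_left _ (by norm_num)⟩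
  have hc' : D * c = (p ^ f) ^ 36 * (((p ^ f) ^ 2 - 1) * ((p ^ f) ^ 5 + 1) * ((p ^ f) ^ 6 - 1) * ((p ^ f) ^ 8 - 1) *
      ((p ^ f) ^ 9 + 1) * ((p ^ f) ^ 12 - 1)) := by
    have h : Nat.gcd 3 (p ^ f + 1) * c = (p ^ f) ^ 36 * (((p ^ f) ^ 2 - 1) * ((p ^ f) ^ 5 + 1) * ((p ^ f) ^ 6 - 1) *
      ((p ^ f) ^ 8 - 1) * ((p ^ f) ^ 9 + 1) * ((p ^ f) ^ 12 - 1)) := hc
    rw [hD, h]
  have hup : D * c ∣ (p ^ f) ^ 36 * ([2, 10, 6, 8, 18, 12].map fun d => (p ^ f) ^ d - 1).prod := by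
    rw [hc']
    simp only [List.map_cons, List.map_nil, List.prod_cons, List.prod_nil, mul_one]
    refine Nat.mul_dvd_mul_left _ ?_
    have h1 := add_dvd (p ^ f) 5
    have h2 := add_dvd (p ^ f) 9
    norm_num only at h1 h2
    rw [mul_assoc, mul_assoc, mul_assoc, mul_assoc]
    exact Nat.mul_dvd_mul_left _ (Nat.mul_dvd_mul h1 (Nat.mul_dvd_mul_left _ (Nat.mul_dvd_mul_left _
      (Nat.mul_dvd_mul_right h2 _))))
  have h18 : ∀ t, Prim p (f * 18) t → t ∣ D * c := fun t ht => by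
    rw [hc']
    refine dvd_of_prim' (d := 9) ht hf (by norm_num) ?_
    exact (Dvd.intro_left _ rfl).trans ((Dvd.intro _ rfl).trans (Dvd.intro_left _ rfl))
  have h8 : ∀ t, Prim p (f * 8) t → t ∣ D * c := fun t ht => by
    rw [hc']
    refine dvd_of_prim ht ?_
    exact (Dvd.intro_left _ rfl).trans ((Dvd.intro _ rfl).trans ((Dvd.intro _ rfl).trans (Dvd.intro_left _ rfl)))
  have hfM : f * 18 = n * E :=
    exc_top (a := 36) (D := D) [2, 10, 6, 8, 18, 12] hp hn hn5 hE hf (by norm_num) (by omega) hD0 hD3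
      hup (by decide) h18 hdvd hs
  have h8 := second' hp hn hf hdvd hfM (not_dvd18 hn5 hn) (d := 8) (by omega) (by omega)
    (fun t ht => ofD ht (by omega) hD0 hD3 (h8 t ht))
  omega

theorem gn_g2 (hp : p.Prime) (hn : n.Prime) (hn5 : 5 ≤ n) (hE : 1 ≤ E) {q : ℕ} (hg : Cond (.g2 q))
    (hch : HasChar p (.g2 q)) (hc : den (.g2 q) * c = num (.g2 q)) (hdvd : c ∣ glN n (p ^ E))
    (hs : ∀ s, Prim p (n * E) s → s ∣ c) : False := by
  obtain ⟨f, rfl⟩ := hch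
  have hq3 : 3 ≤ p ^ f := hg.1
  have hf : 1 ≤ f := f_pos hg.2 rfl
  have hc' : 1 * c = (p ^ f) ^ 6 * (((p ^ f) ^ 2 - 1) * ((p ^ f) ^ 6 - 1)) := hc
  have hup : 1 * c ∣ (p ^ f) ^ 6 * ([2, 6].map fun d => (p ^ f) ^ d - 1).prod := by
    rw [hc']
    simp only [List.map_cons, List.map_nil, List.prod_cons, List.prod_nil, mul_one]
    exact dvd_rfl
  have h6 : ∀ t, Prim p (f * 6) t → t ∣ 1 * c := fun t ht => by
    rw [hc']
    refine dvd_of_prim ht ?_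
    exact (Dvd.intro_left _ rfl).trans (Dvd.intro_left _ rfl)
  have hfM : f * 6 = n * E :=
    exc_top (a := 6) (D := 1) [2, 6] hp hn hn5 hE hf (by norm_num)
      (by
        rintro ⟨h1, h2⟩
        obtain rfl : f = 1 := by omega
        rw [h1] at hq3
        omega) one_pos (by norm_num)
      hup (by decide) h6 hdvd hs
  refine tpart hp hn hn5 hf hdvd hfM (by norm_num) (D := 1) (fun t ht h => ?_) ?_
  · have := Nat.le_of_dvd one_pos h
    have := ht.prime.two_le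
    omega
  · rw [hc', pow_two]
    exact (Nat.mul_dvd_mul (sub_dvd_pow_sub _ _) (sub_dvd_pow_sub _ _)).mul_left _

theorem td4_eq {Q : ℕ} (hQ : 1 ≤ Q) : Q ^ 12 - 1 = (Q ^ 8 + Q ^ 4 + 1) * (Q ^ 4 - 1) := by
  obtain ⟨x, hx⟩ : ∃ x, Q ^ 4 = x + 1 := ⟨Q ^ 4 - 1, by have := Nat.one_le_pow 4 Q hQ; omega⟩
  have h1 : Q ^ 12 = (Q ^ 4) ^ 3 := by ring
  have h2 : Q ^ 8 = (Q ^ 4) ^ 2 := by ring
  rw [h1, h2, hx]
  have h3 : (x + 1) ^ 3 = ((x + 1) ^ 2 + (x + 1) + 1) * x + 1 := by ring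
  rw [h3]
  simp

theorem gn_td4 (hp : p.Prime) (hn : n.Prime) (hn5 : 5 ≤ n) (hE : 1 ≤ E) {q : ℕ} (hg : Cond (.td4 q))
    (hch : HasChar p (.td4 q)) (hc : den (.td4 q) * c = num (.td4 q)) (hdvd : c ∣ glN n (p ^ E))
    (hs : ∀ s, Prim p (n * E) s → s ∣ c) : False := by
  obtain ⟨f, rfl⟩ := hch
  have hf : 1 ≤ f := f_pos hg rfl
  have hQ : 1 ≤ p ^ f := Nat.one_le_pow _ _ hp.pos
  have hc' : 1 * c = (p ^ f) ^ 12 * (((p ^ f) ^ 2 - 1) * ((p ^ f) ^ 6 - 1) * ((p ^ f) ^ 8 + (p ^ f) ^ 4 + 1)) := hc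
  have hup : 1 * c ∣ (p ^ f) ^ 12 * ([2, 6, 12].map fun d => (p ^ f) ^ d - 1).prod := by
    rw [hc']
    simp only [List.map_cons, List.map_nil, List.prod_cons, List.prod_nil, mul_one]
    rw [mul_assoc ((p ^ f) ^ 2 - 1)]
    refine Nat.mul_dvd_mul_left _ (Nat.mul_dvd_mul_left _ (Nat.mul_dvd_mul_left _ ?_))
    rw [td4_eq hQ]
    exact Dvd.intro _ rfl
  have h12 : ∀ t, Prim p (f * 12) t → t ∣ 1 * c := fun t ht => by
    rw [hc']
    have h1 := ht.dvd dvd_rfl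
    rw [pow_mul, td4_eq hQ] at h1
    refine Dvd.dvd.trans ((ht.prime.dvd_mul.1 h1).resolve_right fun h2 => ?_)
      ((Dvd.intro_left _ rfl).trans (Dvd.intro_left _ rfl))
    rw [← pow_mul, ht.dvd_iff] at h2
    have := Nat.le_of_dvd (by omega) h2
    omega
  have hfM : f * 12 = n * E :=
    exc_top (a := 12) (D := 1) [2, 6, 12] hp hn hn5 hE hf (by norm_num) (by omega) one_pos (by norm_num)
      hup (by decide) h12 hdvd hs
  refine tpart hp hn hn5 hf hdvd hfM (by norm_num) (D := 1) (fun t ht h => ?_) ?_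
  · have := Nat.le_of_dvd one_pos h
    have := ht.prime.two_le
    omega
  · rw [hc', pow_two]
    exact ((Nat.mul_dvd_mul (sub_dvd_pow_sub _ _) (sub_dvd_pow_sub _ _)).mul_right _).mul_left _

theorem gn_tf4 (hp : p.Prime) (hn : n.Prime) (hn5 : 5 ≤ n) (hE : 1 ≤ E) {q : ℕ} (hg : Cond (.tf4 q))
    (hch : HasChar p (.tf4 q)) (hc : den (.tf4 q) * c = num (.tf4 q)) (hdvd : c ∣ glN n (p ^ E))
    (hs : ∀ s, Prim p (n * E) s → s ∣ c) : False := by
  obtain ⟨f, rfl⟩ := hch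
  obtain ⟨m, hm, hqm⟩ := hg
  have hf : 1 ≤ f := f_pos' (q := p ^ f) (by rw [hqm]; exact Nat.one_lt_two_pow (by omega)) rfl
  have hc' : 1 * c = (p ^ f) ^ 12 * ((p ^ f - 1) * ((p ^ f) ^ 3 + 1) * ((p ^ f) ^ 4 - 1) * ((p ^ f) ^ 6 + 1)) := hc
  have hup : 1 * c ∣ (p ^ f) ^ 12 * ([1, 6, 4, 12].map fun d => (p ^ f) ^ d - 1).prod := by
    rw [hc']
    simp only [List.map_cons, List.map_nil, List.prod_cons, List.prod_nil, mul_one]
    refine Nat.mul_dvd_mul_left _ ?_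
    have h1 := add_dvd (p ^ f) 3
    have h2 := add_dvd (p ^ f) 6
    norm_num only at h1 h2
    rw [mul_assoc, mul_assoc, pow_one]
    exact Nat.mul_dvd_mul_left _ (Nat.mul_dvd_mul h1 (Nat.mul_dvd_mul_left _ h2))
  have h12 : ∀ t, Prim p (f * 12) t → t ∣ 1 * c := fun t ht => by
    rw [hc']
    refine dvd_of_prim' (d := 6) ht hf (by norm_num) ?_
    exact (Dvd.intro_left _ rfl).trans (Dvd.intro_left _ rfl)
  have hfM : f * 12 = n * E :=
    exc_top (a := 12) (D := 1) [1, 6, 4, 12] hp hn hn5 hE hf (by norm_num) (by omega) one_pos (by norm_num)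
      hup (by decide) h12 hdvd hs
  refine tpart hp hn hn5 hf hdvd hfM (by norm_num) (D := 1) (fun t ht h => ?_) ?_
  · have := Nat.le_of_dvd one_pos h
    have := ht.prime.two_le
    omega
  · rw [hc', pow_two]
    exact ((Nat.mul_dvd_mul (Dvd.intro _ rfl) (sub_dvd_pow_sub _ _)).mul_right _).mul_left _

theorem gn_sz (hp : p.Prime) (hn : n.Prime) (hn5 : 5 ≤ n) (hE : 1 ≤ E) {q : ℕ} (hg : Cond (.sz q))
    (hch : HasChar p (.sz q)) (hc : den (.sz q) * c = num (.sz q)) (hdvd : c ∣ glN n (p ^ E))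
    (hs : ∀ s, Prim p (n * E) s → s ∣ c) : GNOut n E p (.sz q) := by
  obtain ⟨f, rfl⟩ := hch
  obtain ⟨m, hm, hqm⟩ := hg
  have hf : 1 ≤ f := f_pos' (q := p ^ f) (by rw [hqm]; exact Nat.one_lt_two_pow (by omega)) rfl
  have hc' : 1 * c = (p ^ f) ^ 2 * ((p ^ f - 1) * ((p ^ f) ^ 2 + 1)) := hc
  have hup : 1 * c ∣ (p ^ f) ^ 2 * ([1, 4].map fun d => (p ^ f) ^ d - 1).prod := by
    rw [hc']
    simp only [List.map_cons, List.map_nil, List.prod_cons, List.prod_nil, mul_one]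
    refine Nat.mul_dvd_mul_left _ ?_
    have h1 := add_dvd (p ^ f) 2
    norm_num only at h1
    rw [pow_one]
    exact Nat.mul_dvd_mul_left _ h1
  have h4 : ∀ t, Prim p (f * 4) t → t ∣ 1 * c := fun t ht => by
    rw [hc']
    refine dvd_of_prim' (d := 2) ht hf (by norm_num) ?_
    exact (Dvd.intro_left _ rfl).trans (Dvd.intro_left _ rfl)
  have hfM : f * 4 = n * E :=
    exc_top (a := 2) (D := 1) [1, 4] hp hn hn5 hE hf (by norm_num) (by omega) one_pos (by norm_num)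
      hup (by decide) h4 hdvd hs
  exact ⟨f, rfl, by omega⟩

theorem gn_ree (hp : p.Prime) (hn : n.Prime) (hn5 : 5 ≤ n) (hE : 1 ≤ E) {q : ℕ} (hg : Cond (.ree q))
    (hch : HasChar p (.ree q)) (hc : den (.ree q) * c = num (.ree q)) (hdvd : c ∣ glN n (p ^ E))
    (hs : ∀ s, Prim p (n * E) s → s ∣ c) : GNOut n E p (.ree q) := by
  obtain ⟨f, rfl⟩ := hch
  obtain ⟨m, hm, hqm⟩ := hg
  have hq3 : 3 ≤ p ^ f := by
    rw [hqm]
    calc 3 = 3 ^ 1 := (pow_one 3).symm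
      _ ≤ 3 ^ (2 * m + 1) := Nat.pow_le_pow_right (by norm_num) (by omega)
  have hf : 1 ≤ f := f_pos' (q := p ^ f) (by omega) rfl
  have hc' : 1 * c = (p ^ f) ^ 3 * ((p ^ f - 1) * ((p ^ f) ^ 3 + 1)) := hc
  have hup : 1 * c ∣ (p ^ f) ^ 3 * ([1, 6].map fun d => (p ^ f) ^ d - 1).prod := by
    rw [hc']
    simp only [List.map_cons, List.map_nil, List.prod_cons, List.prod_nil, mul_one]
    refine Nat.mul_dvd_mul_left _ ?_
    have h1 := add_dvd (p ^ f) 3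
    norm_num only at h1
    rw [pow_one]
    exact Nat.mul_dvd_mul_left _ h1
  have h6 : ∀ t, Prim p (f * 6) t → t ∣ 1 * c := fun t ht => by
    rw [hc']
    refine dvd_of_prim' (d := 3) ht hf (by norm_num) ?_
    exact (Dvd.intro_left _ rfl).trans (Dvd.intro_left _ rfl)
  have hfM : f * 6 = n * E :=
    exc_top (a := 3) (D := 1) [1, 6] hp hn hn5 hE hf (by norm_num)
      (by
        rintro ⟨h1, h2⟩
        obtain rfl : f = 1 := by omega
        rw [h1] at hq3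
        omega) one_pos (by norm_num)
      hup (by decide) h6 hdvd hs
  exact ⟨f, rfl, by omega⟩

end Cfsg.Agent.H264.GN
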