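import Mathlib
import Cfsg.Agent.H264.GN.Exc2

/-!
# Arithmetic of the orders inside `GL_n(p^E)` and `GU_n(p^e)`: from `GNOut` to the final lists (helper264)
-/

set_option autoImplicit false

namespace Cfsg.Agent.H264.GN

open Cfsg.Agent.OrdDiv Cfsg.Agent.H436 Cfsg.Agent.H915.GN

variable {p n E c f e s : ℕ} {g : Grp}

theorem of_prim_nE (hE : 1 ≤ E) (hs : Prim p (n * E) s) :
    s.Prime ∧ s ∣ (p ^ E) ^ n - 1 ∧ ∀ i, 0 < i → i < n → ¬ s ∣ (p ^ E) ^ i - 1 := by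
  refine ⟨hs.prime, ?_, fun i hi hin h => ?_⟩
  · rw [← pow_mul, mul_comm]
    exact hs.dvd dvd_rfl
  · rw [← pow_mul, hs.dvd_iff, mul_comm n E] at h
    have := Nat.le_of_dvd hi (Nat.dvd_of_mul_dvd_mul_left (by omega) h)
    omega

/-- a primitive prime for `n f` divides `c` if `E = 2 f` -/
theorem exists_half (hp : p.Prime) (hn : n.Prime) (hn5 : 5 ≤ n) (hf : 1 ≤ f) (hE : 2 * f = E)
    (hs : ∀ s, s.Prime → s ∣ (p ^ E) ^ n - 1 → (∀ i, 0 < i → i < n → ¬ s ∣ (p ^ E) ^ i - 1) → s ∣ c) :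
    ∃ s, Prim p (n * f) s ∧ s ∣ c := by
  obtain ⟨s, hs'⟩ := exists_prim_nE hp hn hn5 hf
  refine ⟨s, hs', hs s hs'.prime ?_ fun i hi hin h => ?_⟩
  · rw [← pow_mul, ← hE]
    exact hs'.dvd ⟨2, by ring⟩
  · rw [← pow_mul, hs'.dvd_iff, ← hE] at h
    have h1 : f * n ∣ f * (2 * i) := by
      obtain ⟨k, hk⟩ := h
      exact ⟨k, by linarith [hk]⟩
    have h2 := Nat.dvd_of_mul_dvd_mul_left (by omega) h1
    rcases hn.dvd_mul.1 h2 with h3 | h3
    · have := Nat.le_of_dvd (by norm_num) h3; omega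
    · have := Nat.le_of_dvd hi h3; omega

/-- `s` divides `q^i - 1` or `q^i + 1`: then `n ∣ i` -/
theorem n_dvd (hn : n.Prime) (hn5 : 5 ≤ n) (hf : 1 ≤ f) (hs : Prim p (n * f) s) {i : ℕ}
    (h : s ∣ (p ^ f) ^ (2 * i) - 1) : n ∣ i := by
  rw [← pow_mul, hs.dvd_iff] at h
  have h1 : f * n ∣ f * (2 * i) := by
    obtain ⟨k, hk⟩ := h
    exact ⟨k, by linarith [hk]⟩
  have h2 := Nat.dvd_of_mul_dvd_mul_left (by omega) h1
  refine (hn.dvd_mul.1 h2).resolve_left fun h3 => ?_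
  have := Nat.le_of_dvd (by norm_num) h3
  omega

theorem sub_dvd_two (q i : ℕ) : q ^ i - 1 ∣ q ^ (2 * i) - 1 := by
  rw [mul_comm, pow_mul]
  exact sub_dvd_pow_sub _ _

/-- `s` does not divide `q^n + 1` -/
theorem not_dvd_add_one (hn5 : 5 ≤ n) (hf : 1 ≤ f) (hs : Prim p (n * f) s) : ¬ s ∣ (p ^ f) ^ n + 1 := by
  intro h
  have h1 : s ∣ (p ^ f) ^ n - 1 := by
    rw [← pow_mul, mul_comm]
    exact hs.dvd dvd_rfl
  have h2 : s ∣ 2 := by
    have h3 := Nat.dvd_sub h h1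
    have h4 : 1 ≤ (p ^ f) ^ n := by
      rcases Nat.eq_zero_or_pos p with rfl | h5
      · exact absurd (dvd_zero s) hs.not_dvd
      · exact Nat.one_le_pow _ _ (pow_pos h5 _)
    have h5 : (p ^ f) ^ n + 1 - ((p ^ f) ^ n - 1) = 2 := by omega
    rwa [h5] at h3
  have h3 := lt_of_prim hs
  have h4 := Nat.le_of_dvd (by norm_num) h2
  have : n * 1 ≤ n * f := Nat.mul_le_mul_left _ hf
  omega

/-- `s` does not divide `|GU_m(q)|`, `m = n, n + 1` -/
theorem not_dvd_prU (hn : n.Prime) (hn5 : 5 ≤ n) (hf : 1 ≤ f) (hs : Prim p (n * f) s) {m : ℕ} (hm : m ≤ n + 1) :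
    ¬ s ∣ prU (p ^ f) m := by
  intro h
  unfold prU at h
  rw [prod_list, Prime.dvd_finsetProd_iff hs.prime.prime] at h
  obtain ⟨i, hi, h⟩ := h
  rw [Finset.mem_range] at hi
  have hodd : n % 2 = 1 := by
    rcases hn.eq_two_or_odd with h1 | h1
    · omega
    · exact h1
  split_ifs at h with h2
  · have h3 := n_dvd hn hn5 hf hs (h.trans (add_dvd _ _))
    have h4 : i + 1 = n := by
      obtain ⟨k, hk⟩ := h3
      rcases Nat.lt_or_ge k 2 with h5 | h5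
      · interval_cases k <;> omega
      · nlinarith
    rw [h4] at h
    exact not_dvd_add_one hn5 hf hs h
  · have h3 := n_dvd hn hn5 hf hs (h.trans (sub_dvd_two _ _))
    have h4 : i + 1 = n := by
      obtain ⟨k, hk⟩ := h3
      rcases Nat.lt_or_ge k 2 with h5 | h5
      · interval_cases k <;> omega
      · nlinarith
    apply h2
    have : i % 2 = 0 := by omega
    rw [this]
    rfl

theorem not_dvd_num_psu (hn : n.Prime) (hn5 : 5 ≤ n) (hf : 1 ≤ f) (hs : Prim p (n * f) s) {m : ℕ} (hm : m ≤ n + 1) :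
    ¬ s ∣ num (.psu m (p ^ f)) := by
  intro h
  have h1 : s ∣ (p ^ f) ^ (m * (m - 1) / 2) * prU (p ^ f) m := h
  rcases hs.prime.dvd_mul.1 h1 with h2 | h2
  · rw [← pow_mul] at h2
    exact hs.not_dvd_pow _ h2
  · exact not_dvd_prU hn hn5 hf hs hm h2

theorem not_dvd_num_ominus (hn : n.Prime) (hn5 : 5 ≤ n) (hf : 1 ≤ f) (hs : Prim p (n * f) s) :
    ¬ s ∣ num (.ominus n (p ^ f)) := by
  intro h
  have h1 : s ∣ (p ^ f) ^ (n * (n - 1)) * (((p ^ f) ^ n + 1) * prB (p ^ f) (n - 1)) := h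
  rcases hs.prime.dvd_mul.1 h1 with h2 | h2
  · rw [← pow_mul] at h2
    exact hs.not_dvd_pow _ h2
  rcases hs.prime.dvd_mul.1 h2 with h3 | h3
  · exact not_dvd_add_one hn5 hf hs h3
  · unfold prB at h3
    rw [prod_list, Prime.dvd_finsetProd_iff hs.prime.prime] at h3
    obtain ⟨i, hi, h⟩ := h3
    rw [Finset.mem_range] at hi
    have h4 := Nat.le_of_dvd (by omega) (n_dvd hn hn5 hf hs h)
    omega

/-- **The final list for `GL_n`.** -/
theorem sl_of_out (hp : p.Prime) (hn : n.Prime) (hn5 : 5 ≤ n) (hE : 1 ≤ E) (hc : den g * c = num g)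
    (hs : ∀ s, s.Prime → s ∣ (p ^ E) ^ n - 1 → (∀ i, 0 < i → i < n → ¬ s ∣ (p ^ E) ^ i - 1) → s ∣ c)
    (h : GNOut n E p g) :
    (∃ f, g = .psl 2 (p ^ f) ∧ 2 * f = n * E) ∨ g = .psl n (p ^ E) ∨ (∃ f, g = .psu 3 (p ^ f) ∧ 6 * f = n * E) ∨
      (∃ f, g = .sz (p ^ f) ∧ 4 * f = n * E) ∨ (∃ f, g = .ree (p ^ f) ∧ 6 * f = n * E) := by
  cases g
  case psl m q =>
    obtain ⟨f, rfl, h | h⟩ := h
    · exact Or.inl ⟨f, by rw [h.1], h.2⟩
    · exact Or.inr (Or.inl (by rw [h.1, h.2]))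
  case psu m q =>
    obtain ⟨f, rfl, h | h⟩ := h
    · exact Or.inr (Or.inr (Or.inl ⟨f, by rw [h.1], h.2⟩))
    · exfalso
      have hf : 1 ≤ f := by omega
      obtain ⟨s, hs1, hs2⟩ := exists_half hp hn hn5 hf h.2 hs
      exact not_dvd_num_psu hn hn5 hf hs1 (m := m) (by omega) (hc ▸ hs2.mul_left _)
  case ominus m q =>
    obtain ⟨f, rfl, rfl, h⟩ := h
    exfalso
    have hf : 1 ≤ f := by omega
    obtain ⟨s, hs1, hs2⟩ := exists_half hp hn hn5 hf h hs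
    exact not_dvd_num_ominus hn hn5 hf hs1 (hc ▸ hs2.mul_left _)
  case sz q =>
    obtain ⟨f, rfl, h⟩ := h
    exact Or.inr (Or.inr (Or.inr (Or.inl ⟨f, rfl, h⟩)))
  case ree q =>
    obtain ⟨f, rfl, h⟩ := h
    exact Or.inr (Or.inr (Or.inr (Or.inr ⟨f, rfl, h⟩)))
  all_goals exact absurd h not_false

/-- `|GU_n(q)|` divides `|GL_n(q²)|` -/
theorem gu_dvd_gl (n p e : ℕ) : (p ^ e) ^ (n * (n - 1) / 2) * prU (p ^ e) n ∣ glN n (p ^ (2 * e)) := by
  rw [glN_eq]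
  refine Nat.mul_dvd_mul ?_ ?_
  · exact pow_dvd_pow_of_dvd (pow_dvd_pow p (by omega)) _
  · unfold prU
    rw [prod_list]
    refine Finset.prod_dvd_prod_of_dvd _ _ fun i _ => ?_
    have h : (p ^ (2 * e)) ^ (i + 1) - 1 = (p ^ e) ^ (2 * (i + 1)) - 1 := by
      rw [← pow_mul, ← pow_mul]
      congr 2
      ring
    rw [h]
    split_ifs
    · exact add_dvd _ _
    · exact sub_dvd_two _ _

/-- The `p`-part of `|GU_n(p^e)|`. -/
theorem pow_le_su (hp : p.Prime) (he : 1 ≤ e) {a k : ℕ} (h : p ^ k ∣ (p ^ e) ^ a * prU (p ^ e) n) : k ≤ e * a := by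
  rw [← pow_mul] at h
  have hco : Nat.Coprime (p ^ k) (prU (p ^ e) n) := by
    refine Nat.Coprime.pow_left k ?_
    refine (Nat.Prime.coprime_iff_not_dvd hp).2 fun h1 => ?_
    unfold prU at h1
    rw [prod_list, Prime.dvd_finsetProd_iff hp.prime] at h1
    obtain ⟨j, hj, hd⟩ := h1
    have h2 : p ∣ (p ^ e) ^ (j + 1) := by
      rw [← pow_mul]
      exact dvd_pow_self p (Nat.mul_ne_zero (by omega) (by omega))
    have h3 : 1 ≤ (p ^ e) ^ (j + 1) := Nat.one_le_pow _ _ (pow_pos hp.pos _)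
    have h4 : p ∣ 1 := by
      split_ifs at hd
      · exact (Nat.dvd_add_right h2).1 hd
      · have := (Nat.dvd_sub h2 hd)
        rwa [Nat.sub_sub_self h3] at this
    exact hp.one_lt.ne' (Nat.dvd_one.1 h4)
  exact (Nat.pow_dvd_pow_iff_le_right hp.one_lt).1 (hco.dvd_of_dvd_mul_right h)

/-- from the order equation -/
theorem pow_le_of_eq (hp : p.Prime) (he : 1 ≤ e) {a k D X : ℕ} (hdvd : c ∣ (p ^ e) ^ a * prU (p ^ e) n)
    (hc : D * c = p ^ k * X) (hD : Nat.Coprime p D) : k ≤ e * a := by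
  refine pow_le_su (n := n) hp he (Dvd.dvd.trans ?_ hdvd)
  refine (Nat.Coprime.pow_left k hD).dvd_of_dvd_mul_left ?_
  rw [hc]
  exact Dvd.intro _ rfl

theorem cop_sub (hp : p.Prime) {m : ℕ} (hm : 1 ≤ m) : Nat.Coprime p (p ^ m - 1) := by
  refine (Nat.Prime.coprime_iff_not_dvd hp).2 fun h => ?_
  have h2 := Nat.dvd_sub (dvd_pow_self p (show m ≠ 0 by omega)) h
  rw [Nat.sub_sub_self (Nat.one_le_pow _ _ hp.pos)] at h2
  exact hp.one_lt.ne' (Nat.dvd_one.1 h2)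

theorem cop_add (hp : p.Prime) {m : ℕ} (hm : 1 ≤ m) : Nat.Coprime p (p ^ m + 1) := by
  refine (Nat.Prime.coprime_iff_not_dvd hp).2 fun h => ?_
  have h2 := (Nat.dvd_add_right (dvd_pow_self p (show m ≠ 0 by omega))).1 h
  exact hp.one_lt.ne' (Nat.dvd_one.1 h2)

/-- **The final list for `GU_n`.** -/
theorem su_of_out (hp : p.Prime) (hn5 : 5 ≤ n) (he : 1 ≤ e) (hc : den g * c = num g)
    (hdvd : c ∣ (p ^ e) ^ (n * (n - 1) / 2) * prU (p ^ e) n) (h : GNOut n (2 * e) p g) :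
    (∃ f, g = .psl 2 (p ^ f) ∧ 2 * f = n * (2 * e)) ∨ g = .psu n (p ^ e) ∨
      (∃ f, g = .psu 3 (p ^ f) ∧ 6 * f = n * (2 * e)) ∨
      (∃ f, g = .sz (p ^ f) ∧ 4 * f = n * (2 * e)) ∨ (∃ f, g = .ree (p ^ f) ∧ 6 * f = n * (2 * e)) := by
  obtain ⟨a, ha⟩ : ∃ a, a = n * (n - 1) / 2 := ⟨_, rfl⟩
  have haE : n * (n - 1) = 2 * a := by
    rw [ha]
    refine (Nat.mul_div_cancel' ?_).symm
    obtain ⟨m, rfl⟩ : ∃ m, n = m + 1 := ⟨n - 1, by omega⟩
    rw [Nat.add_sub_cancel, mul_comm]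
    exact (Nat.even_mul_succ_self m).two_dvd
  have ha1 : 1 ≤ a := by
    have : 5 * 4 ≤ n * (n - 1) := Nat.mul_le_mul hn5 (by omega)
    omega
  rw [← ha] at hdvd
  cases g
  case psl m q =>
    obtain ⟨f, rfl, h | h⟩ := h
    · exact Or.inl ⟨f, by rw [h.1], h.2⟩
    · exfalso
      obtain ⟨rfl, rfl⟩ := h
      have h1 : Nat.gcd m (p ^ (2 * e) - 1) * (p ^ (2 * e) - 1) * c = glN m (p ^ (2 * e)) := hc
      rw [glN_eq, ← ha, ← pow_mul] at h1
      have h2 := pow_le_of_eq hp he hdvd h1 (Nat.Coprime.mul_right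
        (Nat.Coprime.coprime_dvd_right (Nat.gcd_dvd_right _ _) (cop_sub hp (by omega))) (cop_sub hp (by omega)))
      nlinarith
  case psu m q =>
    obtain ⟨f, rfl, h | ⟨h | h, h'⟩⟩ := h
    · exact Or.inr (Or.inr (Or.inl ⟨f, by rw [h.1], h.2⟩))
    · obtain rfl : f = e := by omega
      exact Or.inr (Or.inl (by rw [h]))
    · exfalso
      obtain rfl : f = e := by omega
      rw [h] at hc
      have h1 : Nat.gcd (n + 1) (p ^ f + 1) * (p ^ f + 1) * c =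
        (p ^ f) ^ ((n + 1) * (n + 1 - 1) / 2) * prU (p ^ f) (n + 1) := hc
      have h2 : (n + 1) * (n + 1 - 1) / 2 = a + n := by
        obtain ⟨m, rfl⟩ : ∃ m, n = m + 1 := ⟨n - 1, by omega⟩
        simp only [Nat.add_sub_cancel] at haE ⊢
        have : (m + 1 + 1) * (m + 1) = 2 * (a + (m + 1)) := by nlinarith
        rw [this]
        omega
      rw [h2, ← pow_mul] at h1
      have h2 := pow_le_of_eq hp he hdvd h1 (Nat.Coprime.mul_right
        (Nat.Coprime.coprime_dvd_right (Nat.gcd_dvd_right _ _) (cop_add hp (by omega))) (cop_add hp (by omega)))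
      nlinarith
  case ominus m q =>
    obtain ⟨f, rfl, rfl, h⟩ := h
    exfalso
    obtain rfl : f = e := by omega
    have h1 : Nat.gcd 4 ((p ^ f) ^ m + 1) * c =
      (p ^ f) ^ (m * (m - 1)) * (((p ^ f) ^ m + 1) * prB (p ^ f) (m - 1)) := hc
    rw [haE, ← pow_mul, ← pow_mul] at h1
    have h2 := pow_le_of_eq hp he hdvd h1
      (Nat.Coprime.coprime_dvd_right (Nat.gcd_dvd_right _ _) (cop_add hp (by nlinarith)))
    nlinarith
  case sz q =>
    obtain ⟨f, rfl, h⟩ := h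
    exact Or.inr (Or.inr (Or.inr (Or.inl ⟨f, rfl, h⟩)))
  case ree q =>
    obtain ⟨f, rfl, h⟩ := h
    exact Or.inr (Or.inr (Or.inr (Or.inr ⟨f, rfl, h⟩)))
  all_goals exact absurd h not_false

end Cfsg.Agent.H264.GN
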