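import Mathlib
import Cfsg.Agent.H264.GN.Fin

/-!
# Arithmetic of the orders inside `GL_n(p^E)`: the classical families (helper264)
-/

set_option autoImplicit false

namespace Cfsg.Agent.H264.GN

open Cfsg.Agent.OrdDiv Cfsg.Agent.H436 Cfsg.Agent.H915.GN

variable {p n E c f M d t : ℕ}

/-- **The top exponent**, second form. -/
theorem top' (hp : p.Prime) (hn : n.Prime) (hn5 : 5 ≤ n) (hE : 1 ≤ E) (hf : 1 ≤ f) (hdvd : c ∣ glN n (p ^ E))
    (h6 : p = 2 → f * M = 6 → ∀ x, 1 ≤ x → x ≤ M → n * E ∣ f * x → False)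
    (h1 : ∀ s, Prim p (n * E) s → s ∣ c → ∃ x, 1 ≤ x ∧ x ≤ M ∧ n * E ∣ f * x)
    (hs : ∀ s, Prim p (n * E) s → s ∣ c)
    (h2 : ∀ t, Prim p (f * M) t → t ∣ c) : f * M = n * E := by
  obtain ⟨s, hs'⟩ := exists_prim_nE hp hn hn5 hE
  obtain ⟨x, hx1, hx2, hx⟩ := h1 s hs' (hs s hs')
  have h3 : n * E ≤ f * x := Nat.le_of_dvd (by positivity) hx
  have h4 : f * x ≤ f * M := Nat.mul_le_mul_left _ hx2
  have h5 : 5 * 1 ≤ n * E := Nat.mul_le_mul hn5 hE
  exact top hp hn hn5 hE hdvd (by omega) (fun h => h6 h.1 h.2 x hx1 hx2 hx) (fun _ _ => by omega) h2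

/-- an even exponent never is the exceptional one -/
theorem even_exc (hn : n.Prime) (hn5 : 5 ≤ n) (h6 : f * M = 6) {x : ℕ} (hx1 : 1 ≤ x) (hx : x ≤ M) (he : 2 ∣ x)
    (h : n * E ∣ f * x) : False := by
  have hf : 1 ≤ f := by
    rcases Nat.eq_zero_or_pos f with rfl | h
    · omega
    · exact h
  have h1 : f * x ≤ 6 := h6 ▸ Nat.mul_le_mul_left _ hx
  have h2 : n ∣ f * x := (Dvd.intro _ rfl).trans h
  have h3 : n ≤ f * x := Nat.le_of_dvd (by positivity) h2
  have h4 : 2 ∣ f * x := he.mul_left _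
  have h5 : f * x = 6 := by omega
  rw [h5] at h2
  have h7 : n ∣ 2 * 3 := h2
  rcases hn.dvd_mul.1 h7 with h8 | h8
  · have := Nat.le_of_dvd (by norm_num) h8; omega
  · have := Nat.le_of_dvd (by norm_num) h8; omega

/-- `s` divides a product -/
theorem of_prod {s a k : ℕ} (hs : Prim p (n * E) s) {F : ℕ → ℕ} (h : s ∣ (p ^ f) ^ a * ∏ i ∈ Finset.range k, F i)
    (P : ℕ → Prop) (hF : ∀ i < k, ∃ x, P x ∧ F i ∣ (p ^ f) ^ x - 1) : ∃ x, P x ∧ n * E ∣ f * x := by
  rcases hs.prime.dvd_mul.1 h with h2 | h2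
  · rw [← pow_mul] at h2
    exact absurd h2 (hs.not_dvd_pow _)
  · rw [Prime.dvd_finsetProd_iff hs.prime.prime] at h2
    obtain ⟨i, hi, hd⟩ := h2
    rw [Finset.mem_range] at hi
    obtain ⟨x, hx, hx2⟩ := hF i hi
    refine ⟨x, hx, ?_⟩
    have := hd.trans hx2
    rwa [← pow_mul, hs.dvd_iff] at this

/-- **The `p`-part.** -/
theorem ppart (hp : p.Prime) (hE : 1 ≤ E) (hdvd : c ∣ glN n (p ^ E)) {a D X : ℕ} (hc : D * c = (p ^ f) ^ a * X)
    (hD : Nat.Coprime p D) : f * a ≤ E * (n * (n - 1) / 2) := by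
  refine pow_le hp hE (Dvd.dvd.trans ?_ hdvd)
  refine (Nat.Coprime.pow_left _ hD).dvd_of_dvd_mul_left ?_
  rw [hc, ← pow_mul]
  exact Dvd.intro _ rfl

theorem half (n : ℕ) : n * (n - 1) = 2 * (n * (n - 1) / 2) := by
  refine (Nat.mul_div_cancel' ?_).symm
  rcases Nat.eq_zero_or_pos n with rfl | h
  · exact dvd_zero _
  obtain ⟨m, rfl⟩ : ∃ m, n = m + 1 := ⟨n - 1, by omega⟩
  rw [Nat.add_sub_cancel, mul_comm]
  exact (Nat.even_mul_succ_self m).two_dvd

/-- comparison of the `p`-parts: `2 f a ≤ n E (n - 1)` -/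
theorem ppart' (hp : p.Prime) (hE : 1 ≤ E) (hdvd : c ∣ glN n (p ^ E)) {a D X : ℕ} (hc : D * c = (p ^ f) ^ a * X)
    (hD : Nat.Coprime p D) : 2 * (f * a) ≤ n * E * (n - 1) := by
  have h1 := ppart hp hE hdvd hc hD
  have h2 := half n
  calc 2 * (f * a) ≤ 2 * (E * (n * (n - 1) / 2)) := Nat.mul_le_mul_left _ h1
    _ = E * (2 * (n * (n - 1) / 2)) := by ring
    _ = E * (n * (n - 1)) := by rw [← h2]
    _ = n * E * (n - 1) := by ring

/-- primitive primes over `q = p^f` -/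
theorem prim_pow (hf : 1 ≤ f) (ht : Prim p (f * d) t) : Prim (p ^ f) d t := by
  refine ⟨ht.prime, fun m => ?_, fun h => ?_⟩
  · rw [← pow_mul, ht.dvd_iff]
    constructor
    · intro h
      exact Nat.dvd_of_mul_dvd_mul_left (by omega) h
    · intro h
      exact Nat.mul_dvd_mul_left _ h
  · exact ht.not_dvd_pow _ h

/-- a prime `n ≥ 5` does not divide `2` -/
theorem not_dvd_two (hn5 : 5 ≤ n) : ¬ n ∣ 2 := fun h => by
  have := Nat.le_of_dvd (by norm_num) h
  omega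

/-- second exponent, when `n ∣ f` -/
theorem second'' (hp : p.Prime) (hn : n.Prime) (hn5 : 5 ≤ n) (hf : 1 ≤ f) (hdvd : c ∣ glN n (p ^ E))
    (hfM : f * M = n * E) (hnM : ¬ n ∣ M) (hd : 1 ≤ d) (h2 : ∀ t, Prim p (f * d) t → t ∣ c) : d ∣ M := by
  have hnf : n ∣ f := (hn.dvd_mul.1 (show n ∣ f * M from ⟨E, hfM⟩)).resolve_right hnM
  have h5 := Nat.le_of_dvd (by omega) hnf
  have h6 : 5 * 1 ≤ f * d := Nat.mul_le_mul (by omega) hd
  refine second' hp hn hf hdvd hfM hnM (by omega) (fun h => ?_) h2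
  have h7 : n ∣ f * d := hnf.mul_right _
  rw [h.2] at h7
  have h8 : n ∣ 2 * 3 := h7
  rcases hn.dvd_mul.1 h8 with h9 | h9
  · have := Nat.le_of_dvd (by norm_num) h9; omega
  · have := Nat.le_of_dvd (by norm_num) h9; omega

theorem dvd_self_sub {a b : ℕ} (h : a ∣ b) : a ∣ b - a := Nat.dvd_sub h dvd_rfl

theorem gn_psl (hp : p.Prime) (hn : n.Prime) (hn5 : 5 ≤ n) (hE : 1 ≤ E) {m q : ℕ} (hg : Cond (.psl m q))
    (hch : HasChar p (.psl m q)) (hc : den (.psl m q) * c = num (.psl m q)) (hdvd : c ∣ glN n (p ^ E))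
    (hs : ∀ s, Prim p (n * E) s → s ∣ c) : GNOut n E p (.psl m q) := by
  obtain ⟨f, rfl⟩ := hch
  obtain ⟨hm, hm2, hq⟩ := hg
  have hf : 1 ≤ f := f_pos hq rfl
  have hc1 : Nat.gcd m (p ^ f - 1) * (p ^ f - 1) * c = glN m (p ^ f) := hc
  have hc' := hc1
  rw [glN_eq] at hc'
  have hprim : ∀ d, 2 ≤ d → d ≤ m → ∀ t, Prim p (f * d) t → t ∣ c := by
    intro d hd hdm t ht
    have h1 : t ∣ Nat.gcd m (p ^ f - 1) * (p ^ f - 1) * c := by
      rw [hc']
      have h2 : (p ^ f) ^ (d - 1 + 1) - 1 ∣ ∏ j ∈ Finset.range m, ((p ^ f) ^ (j + 1) - 1) :=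
        Finset.dvd_prod_of_mem (fun j => (p ^ f) ^ (j + 1) - 1) (Finset.mem_range.2 (by omega))
      rw [Nat.sub_add_cancel (by omega), ← pow_mul] at h2
      exact ((ht.dvd dvd_rfl).trans h2).mul_left _
    have h3 : ¬ t ∣ p ^ f - 1 := fun h => by
      have := Nat.le_of_dvd (by omega) ((ht.dvd_iff _).1 h)
      nlinarith
    rcases ht.prime.dvd_mul.1 h1 with h4 | h4
    · rcases ht.prime.dvd_mul.1 h4 with h5 | h5
      · exact absurd (h5.trans (Nat.gcd_dvd_right _ _)) h3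
      · exact absurd h5 h3
    · exact h4
  have hpp := ppart' hp hE hdvd hc' (Nat.Coprime.mul_right
        (Nat.Coprime.coprime_dvd_right (Nat.gcd_dvd_right _ _) (cop_sub hp hf)) (cop_sub hp hf))
  have hh := half m
  have hfM : f * m = n * E := by
    refine top' hp hn hn5 hE hf hdvd ?_ ?_ hs (hprim m hm le_rfl)
    · intro hp2 h6 x hx1 hx2 hx
      have h1 : f * x ≤ 6 := h6 ▸ Nat.mul_le_mul_left _ hx2
      have h2 : n * E ≤ f * x := Nat.le_of_dvd (by positivity) hx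
      have h3 : n ≤ 6 := by nlinarith
      have h4 : n = 5 := by
        interval_cases n
        · rfl
        · exact absurd hn (by norm_num)
      subst h4
      have h7 : E = 1 := by omega
      subst h7
      have h8 : f * x = 5 := by
        obtain ⟨k, hk⟩ := hx
        have : k = 1 := by
          rcases Nat.lt_or_ge k 2 with h9 | h9
          · interval_cases k <;> omega
          · omega
        rw [hk, this]
      have h9 : f = 1 := by
        have h10 : f ∣ 5 := ⟨x, h8.symm⟩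
        have h11 : f ∣ 6 := ⟨m, h6.symm⟩
        have h12 := Nat.dvd_sub h11 h10
        exact Nat.dvd_one.1 h12
      subst h9
      obtain rfl : m = 6 := by omega
      norm_num at hpp
    · intro s hs' hsc
      have h1 : s ∣ (p ^ f) ^ (m * (m - 1) / 2) * ∏ j ∈ Finset.range m, ((p ^ f) ^ (j + 1) - 1) := by
        rw [← hc']
        exact hsc.mul_left _
      obtain ⟨x, hx, hx2⟩ := of_prod hs' h1 (fun x => 1 ≤ x ∧ x ≤ m) (fun i hi => ⟨i + 1, ⟨by omega, by omega⟩, dvd_rfl⟩)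
      exact ⟨x, hx.1, hx.2, hx2⟩
  refine ⟨f, rfl, ?_⟩
  rcases Nat.lt_or_ge 2 m with h3 | h3
  · right
    by_cases hnm : n ∣ m
    · obtain ⟨k, rfl⟩ := hnm
      have hk : 1 ≤ k := by
        rcases Nat.eq_zero_or_pos k with rfl | h
        · omega
        · exact h
      have hmn : n * k ≤ n := by
        -- `f m (m - 1) ≤ f m (n - 1)`
        have h4 : (f * (n * k)) * (n * k - 1) ≤ (f * (n * k)) * (n - 1) := by
          obtain ⟨A, hA⟩ : ∃ A, A = n * k * (n * k - 1) / 2 := ⟨_, rfl⟩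
          rw [← hA] at hh hpp
          calc (f * (n * k)) * (n * k - 1) = f * (n * k * (n * k - 1)) := by ring
            _ = f * (2 * A) := by rw [hh]
            _ = 2 * (f * A) := by ring
            _ ≤ n * E * (n - 1) := hpp
            _ = (f * (n * k)) * (n - 1) := by rw [hfM]
        have h5 : n * k - 1 ≤ n - 1 := Nat.le_of_mul_le_mul_left h4 (by positivity)
        omega
      have hk1 : k = 1 := by nlinarith
      subst hk1
      rw [mul_one] at hfM ⊢
      refine ⟨rfl, ?_⟩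
      rw [mul_comm] at hfM
      exact Nat.eq_of_mul_eq_mul_left hn.pos hfM
    · exfalso
      have h4 := second'' hp hn hn5 hf hdvd hfM hnm (d := m - 1) (by omega) (hprim (m - 1) (by omega) (by omega))
      have h5 := Nat.le_of_dvd (by omega) (dvd_self_sub h4)
      omega
  · left
    obtain rfl : m = 2 := by omega
    exact ⟨rfl, by omega⟩

/-- the factor `∏ (q^{2(i+1)} - 1)` -/
theorem prB_eq (q m : ℕ) : prB q m = ∏ i ∈ Finset.range m, (q ^ (2 * (i + 1)) - 1) := by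
  unfold prB
  rw [prod_list]

/-- symplectic and odd dimensional orthogonal groups -/
theorem gn_spLike (hp : p.Prime) (hn : n.Prime) (hn5 : 5 ≤ n) (hE : 1 ≤ E) {m : ℕ} (hm : 2 ≤ m) (hf : 1 ≤ f) {D : ℕ}
    (hc : D * c = (p ^ f) ^ (m ^ 2) * prB (p ^ f) m) (hD : Nat.Coprime p D) (hD2 : D ∣ 2)
    (hdvd : c ∣ glN n (p ^ E)) (hs : ∀ s, Prim p (n * E) s → s ∣ c) : False := by
  have hc' := hc
  rw [prB_eq] at hc'
  have hprim : ∀ k, 1 ≤ k → k ≤ m → 3 ≤ f * (2 * k) → ∀ t, Prim p (f * (2 * k)) t → t ∣ c := by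
    intro k hk hkm h3 t ht
    have h1 : t ∣ D * c := by
      rw [hc']
      have h2 : (p ^ f) ^ (2 * (k - 1 + 1)) - 1 ∣ ∏ j ∈ Finset.range m, ((p ^ f) ^ (2 * (j + 1)) - 1) :=
        Finset.dvd_prod_of_mem (fun j => (p ^ f) ^ (2 * (j + 1)) - 1) (Finset.mem_range.2 (by omega))
      rw [Nat.sub_add_cancel (by omega), ← pow_mul] at h2
      exact ((ht.dvd dvd_rfl).trans h2).mul_left _
    refine (ht.prime.dvd_mul.1 h1).resolve_left fun h4 => ?_
    have h5 := lt_of_prim ht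
    have h6 := Nat.le_of_dvd (by norm_num) (h4.trans hD2)
    omega
  have hfM : f * (2 * m) = n * E := by
    refine top' hp hn hn5 hE hf hdvd ?_ ?_ hs (hprim m (by omega) le_rfl (by nlinarith))
    · intro hp2 h6 x hx1 hx2 hx
      obtain ⟨s, hs'⟩ := exists_prim_nE hp hn hn5 hE
      have h1 : s ∣ (p ^ f) ^ (m ^ 2) * ∏ j ∈ Finset.range m, ((p ^ f) ^ (2 * (j + 1)) - 1) := by
        rw [← hc']
        exact (hs s hs').mul_left _
      obtain ⟨y, hy, hy2⟩ := of_prod hs' h1 (fun x => 1 ≤ x ∧ x ≤ 2 * m ∧ 2 ∣ x)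
        (fun i hi => ⟨2 * (i + 1), ⟨by omega, by omega, Dvd.intro _ rfl⟩, dvd_rfl⟩)
      exact even_exc hn hn5 h6 hy.1 hy.2.1 hy.2.2 hy2
    · intro s hs' hsc
      have h1 : s ∣ (p ^ f) ^ (m ^ 2) * ∏ j ∈ Finset.range m, ((p ^ f) ^ (2 * (j + 1)) - 1) := by
        rw [← hc']
        exact hsc.mul_left _
      obtain ⟨x, hx, hx2⟩ := of_prod hs' h1 (fun x => 1 ≤ x ∧ x ≤ 2 * m)
        (fun i hi => ⟨2 * (i + 1), ⟨by omega, by omega⟩, dvd_rfl⟩)
      exact ⟨x, hx.1, hx.2, hx2⟩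
  have hpp := ppart' hp hE hdvd hc' hD
  have hmn : m ≤ n - 1 := by
    have h4 : (f * (2 * m)) * m ≤ (f * (2 * m)) * (n - 1) := by
      calc (f * (2 * m)) * m = 2 * (f * m ^ 2) := by ring
        _ ≤ n * E * (n - 1) := hpp
        _ = (f * (2 * m)) * (n - 1) := by rw [hfM]
    exact Nat.le_of_mul_le_mul_left h4 (by positivity)
  have hnM : ¬ n ∣ 2 * m := by
    intro h
    rcases hn.dvd_mul.1 h with h1 | h1
    · exact not_dvd_two hn5 h1
    · have := Nat.le_of_dvd (by omega) h1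
      omega
  rcases Nat.lt_or_ge 2 m with h3 | h3
  · have h4 := second'' hp hn hn5 hf hdvd hfM hnM (d := 2 * (m - 1)) (by omega)
      (hprim (m - 1) (by omega) (by omega) (by nlinarith [show 2 ≤ m - 1 by omega]))
    have h5 := Nat.le_of_dvd (by omega) (dvd_self_sub h4)
    omega
  · obtain rfl : m = 2 := by omega
    refine tpart hp hn hn5 hf hdvd hfM (by norm_num) (D := D) (fun t ht h => ?_) ?_
    · have hnf : n ∣ f := (hn.dvd_mul.1 (show n ∣ f * (2 * 2) from ⟨E, hfM⟩)).resolve_right hnM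
      have h5 := Nat.le_of_dvd (by omega) hnf
      have h6 := lt_of_prim ht
      have h7 := Nat.le_of_dvd (by norm_num) (h.trans hD2)
      omega
    · rw [hc', pow_two, Finset.prod_range_succ, Finset.prod_range_succ, Finset.prod_range_zero, one_mul]
      exact (Nat.mul_dvd_mul (sub_dvd_pow_sub _ _) (sub_dvd_pow_sub _ _)).mul_left _

theorem gn_psp (hp : p.Prime) (hn : n.Prime) (hn5 : 5 ≤ n) (hE : 1 ≤ E) {m q : ℕ} (hg : Cond (.psp m q))
    (hch : HasChar p (.psp m q)) (hc : den (.psp m q) * c = num (.psp m q)) (hdvd : c ∣ glN n (p ^ E))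
    (hs : ∀ s, Prim p (n * E) s → s ∣ c) : False := by
  obtain ⟨f, rfl⟩ := hch
  obtain ⟨hm, hm2, hq⟩ := hg
  have hf : 1 ≤ f := f_pos hq rfl
  have hc' : Nat.gcd 2 (p ^ f - 1) * c = (p ^ f) ^ (m ^ 2) * prB (p ^ f) m := hc
  exact gn_spLike hp hn hn5 hE hm hf hc' (Nat.Coprime.coprime_dvd_right (Nat.gcd_dvd_right _ _) (cop_sub hp hf))
    (Nat.gcd_dvd_left _ _) hdvd hs

theorem gn_oodd (hp : p.Prime) (hn : n.Prime) (hn5 : 5 ≤ n) (hE : 1 ≤ E) {m q : ℕ} (hg : Cond (.oodd m q))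
    (hch : HasChar p (.oodd m q)) (hc : den (.oodd m q) * c = num (.oodd m q)) (hdvd : c ∣ glN n (p ^ E))
    (hs : ∀ s, Prim p (n * E) s → s ∣ c) : False := by
  obtain ⟨f, rfl⟩ := hch
  obtain ⟨hm, hm2, hq⟩ := hg
  have hf : 1 ≤ f := f_pos hq rfl
  have hc' : 2 * c = (p ^ f) ^ (m ^ 2) * prB (p ^ f) m := hc
  refine gn_spLike hp hn hn5 hE (by omega) hf hc' ?_ dvd_rfl hdvd hs
  refine (Nat.coprime_primes hp Nat.prime_two).2 ?_
  rintro rfl
  rw [Nat.odd_pow_iff (by omega)] at hm2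
  exact absurd hm2 (by decide)

theorem gn_oplus (hp : p.Prime) (hn : n.Prime) (hn5 : 5 ≤ n) (hE : 1 ≤ E) {m q : ℕ} (hg : Cond (.oplus m q))
    (hch : HasChar p (.oplus m q)) (hc : den (.oplus m q) * c = num (.oplus m q)) (hdvd : c ∣ glN n (p ^ E))
    (hs : ∀ s, Prim p (n * E) s → s ∣ c) : False := by
  obtain ⟨f, rfl⟩ := hch
  obtain ⟨hm, hq⟩ := hg
  have hf : 1 ≤ f := f_pos hq rfl
  have hc' : Nat.gcd 4 ((p ^ f) ^ m - 1) * c = (p ^ f) ^ (m * (m - 1)) * (((p ^ f) ^ m - 1) * prB (p ^ f) (m - 1)) := hc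
  have hco : Nat.Coprime p (Nat.gcd 4 ((p ^ f) ^ m - 1)) := by
    rw [← pow_mul]
    exact Nat.Coprime.coprime_dvd_right (Nat.gcd_dvd_right _ _) (cop_sub hp (by nlinarith))
  have hprim : ∀ k, 2 ≤ k → k ≤ m - 1 → ∀ t, Prim p (f * (2 * k)) t → t ∣ c := fun k hk hkm t ht =>
    oplus_prim k (by omega) hkm dvd_rfl (by omega) hc (prim_pow hf ht)
  have hup : ∀ s, Prim p (n * E) s → s ∣ c → ∃ x, (1 ≤ x ∧ x ≤ 2 * (m - 1) ∧ (2 ∣ x ∨ x = m)) ∧ n * E ∣ f * x := by
    intro s hs' hsc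
    have h1 : s ∣ (p ^ f) ^ (m * (m - 1)) * (((p ^ f) ^ m - 1) * prB (p ^ f) (m - 1)) := by
      rw [← hc']
      exact hsc.mul_left _
    rw [prB_eq, mul_left_comm] at h1
    rcases hs'.prime.dvd_mul.1 h1 with h2 | h2
    · rw [← pow_mul, hs'.dvd_iff] at h2
      exact ⟨m, ⟨by omega, by omega, Or.inr rfl⟩, h2⟩
    · exact of_prod hs' h2 _ (fun i hi => ⟨2 * (i + 1), ⟨by omega, by omega, Or.inl (Dvd.intro _ rfl)⟩, dvd_rfl⟩)
  have hfM : f * (2 * (m - 1)) = n * E := by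
    refine top' hp hn hn5 hE hf hdvd ?_ ?_ hs (hprim (m - 1) (by omega) le_rfl)
    · intro hp2 h6 x hx1 hx2 hx
      obtain ⟨s, hs'⟩ := exists_prim_nE hp hn hn5 hE
      obtain ⟨y, ⟨hy1, hy2, hy3⟩, hy⟩ := hup s hs' (hs s hs')
      have hm4 : m = 4 := by
        have : 1 * (2 * (m - 1)) ≤ f * (2 * (m - 1)) := Nat.mul_le_mul_right _ hf
        omega
      exact even_exc hn hn5 h6 hy1 hy2 (by omega) hy
    · intro s hs' hsc
      obtain ⟨x, hx, hx2⟩ := hup s hs' hsc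
      exact ⟨x, hx.1, hx.2.1, hx2⟩
  have hpp := ppart' hp hE hdvd hc' hco
  have hmn : m ≤ n - 1 := by
    have h4 : (f * (2 * (m - 1))) * m ≤ (f * (2 * (m - 1))) * (n - 1) := by
      calc (f * (2 * (m - 1))) * m = 2 * (f * (m * (m - 1))) := by ring
        _ ≤ n * E * (n - 1) := hpp
        _ = (f * (2 * (m - 1))) * (n - 1) := by rw [hfM]
    refine Nat.le_of_mul_le_mul_left h4 ?_
    have : 1 ≤ m - 1 := by omega
    positivity
  have hnM : ¬ n ∣ 2 * (m - 1) := by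
    intro h
    rcases hn.dvd_mul.1 h with h1 | h1
    · exact not_dvd_two hn5 h1
    · have := Nat.le_of_dvd (by omega) h1
      omega
  have h4 := second'' hp hn hn5 hf hdvd hfM hnM (d := 2 * (m - 2)) (by omega) (hprim (m - 2) (by omega) (by omega))
  have h5 := Nat.le_of_dvd (by omega) (dvd_self_sub h4)
  omega

theorem gn_ominus (hp : p.Prime) (hn : n.Prime) (hn5 : 5 ≤ n) (hE : 1 ≤ E) {m q : ℕ} (hg : Cond (.ominus m q))
    (hch : HasChar p (.ominus m q)) (hc : den (.ominus m q) * c = num (.ominus m q)) (hdvd : c ∣ glN n (p ^ E))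
    (hs : ∀ s, Prim p (n * E) s → s ∣ c) : GNOut n E p (.ominus m q) := by
  obtain ⟨f, rfl⟩ := hch
  obtain ⟨hm, hq⟩ := hg
  have hf : 1 ≤ f := f_pos hq rfl
  have hc' : Nat.gcd 4 ((p ^ f) ^ m + 1) * c = (p ^ f) ^ (m * (m - 1)) * (((p ^ f) ^ m + 1) * prB (p ^ f) (m - 1)) := hc
  have hco : Nat.Coprime p (Nat.gcd 4 ((p ^ f) ^ m + 1)) := by
    rw [← pow_mul]
    exact Nat.Coprime.coprime_dvd_right (Nat.gcd_dvd_right _ _) (cop_add hp (by nlinarith))
  have hprim : ∀ k, 2 ≤ k → k ≤ m → ∀ t, Prim p (f * (2 * k)) t → t ∣ c := by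
    intro k hk hkm t ht
    rcases Nat.lt_or_ge k m with h | h
    · exact ominus_prim k (by omega) (by omega) dvd_rfl (by omega) hc (prim_pow hf ht)
    · obtain rfl : k = m := by omega
      exact ominus_prim' hm hc (prim_pow hf ht)
  have hup : ∀ s, Prim p (n * E) s → s ∣ c → ∃ x, (1 ≤ x ∧ x ≤ 2 * m ∧ 2 ∣ x) ∧ n * E ∣ f * x := by
    intro s hs' hsc
    have h1 : s ∣ (p ^ f) ^ (m * (m - 1)) * (((p ^ f) ^ m + 1) * prB (p ^ f) (m - 1)) := by
      rw [← hc']
      exact hsc.mul_left _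
    rw [prB_eq, mul_left_comm] at h1
    rcases hs'.prime.dvd_mul.1 h1 with h2 | h2
    · have h3 := h2.trans (add_dvd _ _)
      rw [← pow_mul, hs'.dvd_iff] at h3
      exact ⟨2 * m, ⟨by omega, by omega, Dvd.intro _ rfl⟩, h3⟩
    · exact of_prod hs' h2 _ (fun i hi => ⟨2 * (i + 1), ⟨by omega, by omega, Dvd.intro _ rfl⟩, dvd_rfl⟩)
  have hfM : f * (2 * m) = n * E := by
    refine top' hp hn hn5 hE hf hdvd ?_ ?_ hs (hprim m (by omega) le_rfl)
    · intro hp2 h6 x hx1 hx2 hx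
      obtain ⟨s, hs'⟩ := exists_prim_nE hp hn hn5 hE
      obtain ⟨y, ⟨hy1, hy2, hy3⟩, hy⟩ := hup s hs' (hs s hs')
      exact even_exc hn hn5 h6 hy1 hy2 hy3 hy
    · intro s hs' hsc
      obtain ⟨x, hx, hx2⟩ := hup s hs' hsc
      exact ⟨x, hx.1, hx.2.1, hx2⟩
  have hpp := ppart' hp hE hdvd hc' hco
  have hmn : m - 1 ≤ n - 1 := by
    have h4 : (f * (2 * m)) * (m - 1) ≤ (f * (2 * m)) * (n - 1) := by
      calc (f * (2 * m)) * (m - 1) = 2 * (f * (m * (m - 1))) := by ring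
        _ ≤ n * E * (n - 1) := hpp
        _ = (f * (2 * m)) * (n - 1) := by rw [hfM]
    exact Nat.le_of_mul_le_mul_left h4 (by positivity)
  by_cases hnm : m = n
  · subst hnm
    refine ⟨f, rfl, rfl, ?_⟩
    apply Nat.eq_of_mul_eq_mul_left hn.pos
    rw [← hfM]
    ring
  · exfalso
    have hnM : ¬ n ∣ 2 * m := by
      intro h
      rcases hn.dvd_mul.1 h with h1 | h1
      · exact not_dvd_two hn5 h1
      · have := Nat.le_of_dvd (by omega) h1
        omega
    have h4 := second'' hp hn hn5 hf hdvd hfM hnM (d := 2 * (m - 1)) (by omega) (hprim (m - 1) (by omega) (by omega))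
    have h5 := Nat.le_of_dvd (by omega) (dvd_self_sub h4)
    omega

theorem gn_psu (hp : p.Prime) (hn : n.Prime) (hn5 : 5 ≤ n) (hE : 1 ≤ E) {m q : ℕ} (hg : Cond (.psu m q))
    (hch : HasChar p (.psu m q)) (hc : den (.psu m q) * c = num (.psu m q)) (hdvd : c ∣ glN n (p ^ E))
    (hs : ∀ s, Prim p (n * E) s → s ∣ c) : GNOut n E p (.psu m q) := by
  obtain ⟨f, rfl⟩ := hch
  obtain ⟨hm, hm3, hq⟩ := hg
  have hf : 1 ≤ f := f_pos hq rfl
  have hc' : Nat.gcd m (p ^ f + 1) * (p ^ f + 1) * c = (p ^ f) ^ (m * (m - 1) / 2) * prU (p ^ f) m := hc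
  have hco : Nat.Coprime p (Nat.gcd m (p ^ f + 1) * (p ^ f + 1)) :=
    Nat.Coprime.mul_right (Nat.Coprime.coprime_dvd_right (Nat.gcd_dvd_right _ _) (cop_add hp hf)) (cop_add hp hf)
  -- the primitive primes in the order
  have hodd : ∀ k, 1 ≤ k → k % 2 = 1 → k ≤ m → 3 ≤ 2 * k → ∀ t, Prim p (f * (2 * k)) t → t ∣ c := by
    intro k hk hk2 hkm hk3 t ht
    have ht' := prim_pow hf ht
    refine psu_prim_aux (i := k - 1) (by omega) hk3 hc ht' ?_
    unfold fU
    rw [if_pos (by rw [show (k - 1) % 2 = 0 by omega]; rfl), Nat.sub_add_cancel hk]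
    refine ht'.dvd_add dvd_rfl fun h => ?_
    have := Nat.le_of_dvd (by omega) h
    omega
  have heven : ∀ k, 1 ≤ k → k % 2 = 0 → k ≤ m → 3 ≤ k → ∀ t, Prim p (f * k) t → t ∣ c := by
    intro k hk hk2 hkm hk3 t ht
    have ht' := prim_pow hf ht
    refine psu_prim_aux (i := k - 1) (by omega) hk3 hc ht' ?_
    unfold fU
    rw [if_neg (by rw [show (k - 1) % 2 = 1 by omega]; decide), Nat.sub_add_cancel hk]
    exact ht'.dvd dvd_rfl
  have hup : ∀ s, Prim p (n * E) s → s ∣ c → ∃ x, (1 ≤ x ∧ x ≤ 2 * (if m % 2 = 0 then m - 1 else m) ∧ 2 ∣ x) ∧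
      n * E ∣ f * x := by
    intro s hs' hsc
    have h1 : s ∣ (p ^ f) ^ (m * (m - 1) / 2) * prU (p ^ f) m := by
      rw [← hc']
      exact hsc.mul_left _
    unfold prU at h1
    rw [prod_list] at h1
    refine of_prod hs' h1 _ (fun i hi => ?_)
    rcases Nat.even_or_odd i with h2 | h2
    · have h3 : i % 2 = 0 := Nat.even_iff.1 h2
      refine ⟨2 * (i + 1), ⟨by omega, ?_, Dvd.intro _ rfl⟩, ?_⟩
      · split_ifs <;> omega
      · rw [if_pos (by rw [h3]; rfl)]
        exact add_dvd _ _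
    · have h3 : i % 2 = 1 := Nat.odd_iff.1 h2
      refine ⟨i + 1, ⟨by omega, ?_, by omega⟩, ?_⟩
      · split_ifs <;> omega
      · rw [if_neg (by rw [h3]; decide)]
  have hpp := ppart' hp hE hdvd hc' hco
  have hh := half m
  obtain ⟨A, hA⟩ : ∃ A, A = m * (m - 1) / 2 := ⟨_, rfl⟩
  rw [← hA] at hh hpp
  refine ⟨f, rfl, ?_⟩
  rcases Nat.even_or_odd m with hme | hmo
  · -- `m` even
    have hm0 : m % 2 = 0 := Nat.even_iff.1 hme
    rw [if_pos hm0] at hup
    have hfM : f * (2 * (m - 1)) = n * E := by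
      refine top' hp hn hn5 hE hf hdvd ?_ ?_ hs (hodd (m - 1) (by omega) (by omega) (by omega) (by omega))
      · intro hp2 h6 x hx1 hx2 hx
        obtain ⟨s, hs'⟩ := exists_prim_nE hp hn hn5 hE
        obtain ⟨y, ⟨hy1, hy2, hy3⟩, hy⟩ := hup s hs' (hs s hs')
        exact even_exc hn hn5 h6 hy1 hy2 hy3 hy
      · intro s hs' hsc
        obtain ⟨x, hx, hx2⟩ := hup s hs' hsc
        exact ⟨x, hx.1, hx.2.1, hx2⟩
    have hmn : m ≤ 2 * (n - 1) := by
      have h4 : (f * (2 * (m - 1))) * m ≤ (f * (2 * (m - 1))) * (2 * (n - 1)) := by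
        calc (f * (2 * (m - 1))) * m = 2 * (f * (m * (m - 1))) := by ring
          _ = 2 * (f * (2 * A)) := by rw [hh]
          _ = 2 * (2 * (f * A)) := by ring
          _ ≤ 2 * (n * E * (n - 1)) := Nat.mul_le_mul_left _ hpp
          _ = (f * (2 * (m - 1))) * (2 * (n - 1)) := by rw [hfM]; ring
      refine Nat.le_of_mul_le_mul_left h4 ?_
      have : 1 ≤ m - 1 := by omega
      positivity
    by_cases hnm : n ∣ m - 1
    · right
      have h1 : m - 1 = n := by
        obtain ⟨k, hk⟩ := hnm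
        rcases Nat.lt_or_ge k 2 with h2 | h2
        · interval_cases k <;> omega
        · have : n * 2 ≤ n * k := Nat.mul_le_mul_left _ h2
          omega
      refine ⟨Or.inr (by omega), ?_⟩
      rw [h1] at hfM
      apply Nat.eq_of_mul_eq_mul_left hn.pos
      rw [← hfM]
      ring
    · exfalso
      have hnM : ¬ n ∣ 2 * (m - 1) := by
        intro h
        rcases hn.dvd_mul.1 h with h1 | h1
        · exact not_dvd_two hn5 h1
        · exact hnm h1
      rcases Nat.lt_or_ge m 6 with h6 | h6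
      · obtain rfl : m = 4 := by omega
        have h4 := second'' hp hn hn5 hf hdvd hfM hnM (d := 4) (by omega)
          (heven 4 (by omega) (by omega) (by omega) (by omega))
        omega
      · have h4 := second'' hp hn hn5 hf hdvd hfM hnM (d := 2 * (m - 3)) (by omega)
          (hodd (m - 3) (by omega) (by omega) (by omega) (by omega))
        have h5 : 2 * (m - 3) ∣ 2 * 2 := by
          have := dvd_self_sub h4
          rwa [show 2 * (m - 1) - 2 * (m - 3) = 2 * 2 by omega] at this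
        have h7 := Nat.dvd_of_mul_dvd_mul_left (by omega) h5
        have h8 := Nat.le_of_dvd (by omega) h7
        omega
  · -- `m` odd
    have hm1 : m % 2 = 1 := Nat.odd_iff.1 hmo
    rw [if_neg (by omega)] at hup
    have hfM : f * (2 * m) = n * E := by
      refine top' hp hn hn5 hE hf hdvd ?_ ?_ hs (hodd m (by omega) (by omega) (by omega) (by omega))
      · intro hp2 h6 x hx1 hx2 hx
        obtain ⟨s, hs'⟩ := exists_prim_nE hp hn hn5 hE
        obtain ⟨y, ⟨hy1, hy2, hy3⟩, hy⟩ := hup s hs' (hs s hs')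
        exact even_exc hn hn5 h6 hy1 hy2 hy3 hy
      · intro s hs' hsc
        obtain ⟨x, hx, hx2⟩ := hup s hs' hsc
        exact ⟨x, hx.1, hx.2.1, hx2⟩
    have hmn : m - 1 ≤ 2 * (n - 1) := by
      have h4 : (f * (2 * m)) * (m - 1) ≤ (f * (2 * m)) * (2 * (n - 1)) := by
        calc (f * (2 * m)) * (m - 1) = 2 * (f * (m * (m - 1))) := by ring
          _ = 2 * (f * (2 * A)) := by rw [hh]
          _ = 2 * (2 * (f * A)) := by ring
          _ ≤ 2 * (n * E * (n - 1)) := Nat.mul_le_mul_left _ hpp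
          _ = (f * (2 * m)) * (2 * (n - 1)) := by rw [hfM]; ring
      exact Nat.le_of_mul_le_mul_left h4 (by positivity)
    by_cases hnm : n ∣ m
    · right
      have h1 : m = n := by
        obtain ⟨k, hk⟩ := hnm
        rcases Nat.lt_or_ge k 2 with h2 | h2
        · interval_cases k <;> omega
        · have : n * 2 ≤ n * k := Nat.mul_le_mul_left _ h2
          omega
      refine ⟨Or.inl h1, ?_⟩
      rw [h1] at hfM
      apply Nat.eq_of_mul_eq_mul_left hn.pos
      rw [← hfM]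
      ring
    · have hnM : ¬ n ∣ 2 * m := by
        intro h
        rcases hn.dvd_mul.1 h with h1 | h1
        · exact not_dvd_two hn5 h1
        · exact hnm h1
      rcases Nat.lt_or_ge m 5 with h6 | h6
      · left
        obtain rfl : m = 3 := by omega
        exact ⟨rfl, by omega⟩
      · exfalso
        have h4 := second'' hp hn hn5 hf hdvd hfM hnM (d := 2 * (m - 2)) (by omega)
          (hodd (m - 2) (by omega) (by omega) (by omega) (by omega))
        have h5 : 2 * (m - 2) ∣ 2 * 2 := by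
          have := dvd_self_sub h4
          rwa [show 2 * m - 2 * (m - 2) = 2 * 2 by omega] at this
        have h7 := Nat.dvd_of_mul_dvd_mul_left (by omega) h5
        have h8 := Nat.le_of_dvd (by omega) h7
        omega

/-- **The arithmetic elimination.** -/
theorem gn {g : Grp} (hp : p.Prime) (hn : n.Prime) (hn5 : 5 ≤ n) (hE : 1 ≤ E) (hg : Cond g) (hch : HasChar p g)
    (hc : den g * c = num g) (hdvd : c ∣ glN n (p ^ E)) (hs : ∀ s, Prim p (n * E) s → s ∣ c) : GNOut n E p g := by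
  cases g
  case psl m q => exact gn_psl hp hn hn5 hE hg hch hc hdvd hs
  case psp m q => exact (gn_psp hp hn hn5 hE hg hch hc hdvd hs).elim
  case psu m q => exact gn_psu hp hn hn5 hE hg hch hc hdvd hs
  case oodd m q => exact (gn_oodd hp hn hn5 hE hg hch hc hdvd hs).elim
  case oplus m q => exact (gn_oplus hp hn hn5 hE hg hch hc hdvd hs).elim
  case ominus m q => exact gn_ominus hp hn hn5 hE hg hch hc hdvd hs
  case g2 q => exact (gn_g2 hp hn hn5 hE hg hch hc hdvd hs).elim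
  case f4 q => exact (gn_f4 hp hn hn5 hE hg hch hc hdvd hs).elim
  case e6 q => exact (gn_e6 hp hn hn5 hE hg hch hc hdvd hs).elim
  case e7 q => exact (gn_e7 hp hn hn5 hE hg hch hc hdvd hs).elim
  case e8 q => exact (gn_e8 hp hn hn5 hE hg hch hc hdvd hs).elim
  case te6 q => exact (gn_te6 hp hn hn5 hE hg hch hc hdvd hs).elim
  case td4 q => exact (gn_td4 hp hn hn5 hE hg hch hc hdvd hs).elim
  case sz q => exact gn_sz hp hn hn5 hE hg hch hc hdvd hs
  case ree q => exact gn_ree hp hn hn5 hE hg hch hc hdvd hs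
  case tf4 q => exact (gn_tf4 hp hn hn5 hE hg hch hc hdvd hs).elim
  all_goals exact absurd hch not_false

end Cfsg.Agent.H264.GN
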